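import Groth.Agent.Deform.MaxTori.SelfCent
import Groth.Agent.Deform.Borel.TorusCentral

/-!
# Groups with central maximal tori

A torus central on the geometric fibres is central; if the maximal tori of the geometric fibres are central and their
rank is locally constant there is a maximal torus, unique and central.
-/

set_option autoImplicit false
set_option linter.style.haveILetI false
set_option linter.unusedSectionVars false
set_option backward.isDefEq.respectTransparency false
set_option backward.isDefEq.respectTransparency.types false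
set_option maxHeartbeats 1000000

universe u

open CategoryTheory CategoryTheory.Limits MonoidalCategory CartesianMonoidalCategory AlgebraicGeometry

open scoped MonObj

attribute [local instance] CategoryTheory.Hom.monoid CategoryTheory.Hom.group

namespace Groth.Agent.Deform.MaxTori

open SubMT HomMT

variable {S : Scheme.{u}}

/-- A morphism of flat schemes which is an isomorphism on the geometric fibres is an isomorphism. -/
theorem isIso_of_geom_fibres {Z G : Over S} (f : Z ⟶ G) [Flat Z.hom] [LocallyOfFinitePresentation Z.hom]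
    [LocallyOfFiniteType G.hom] (h : ∀ s, IsIso ((Over.pullback (Red.geomPt s)).map f)) : IsIso f := by
  have hres : ∀ t : S, IsIso ((Over.pullback (S.fromSpecResidueField t)).map f) := by
    intro t
    let a := Spec.map (CommRingCat.ofHom (algebraMap (S.residueField t) (AlgebraicClosure (S.residueField t))))
    have ht := (NatIso.isIso_map_iff (Over.pullbackComp a (S.fromSpecResidueField t)) f).mp (h t)
    haveI : IsIso ((Over.pullback a).map ((Over.pullback (S.fromSpecResidueField t)).map f)) := ht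
    let ft := (Over.pullback (S.fromSpecResidueField t)).map f
    haveI : IsIso ft.left :=
      MorphismProperty.of_isPullback_of_descendsAlong (P := MorphismProperty.isomorphisms Scheme)
        (Q := @Surjective ⊓ @Flat ⊓ @QuasiCompact) (Deform.Extension.isPullback_map_left a ft)
        (MorphismProperty.pullback_fst _ a ⟨⟨GrpSchLib.surjective_spec_map_field _, GrpSchLib.flat_spec_map_field _⟩, inferInstance⟩)
        ((Over.forget _).map_isIso ((Over.pullback a).map ft))
    haveI : IsIso ((Over.forget _).map ft) := ‹IsIso ft.left›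
    exact isIso_of_reflects_iso ft (Over.forget _)
  haveI : LocallyOfFinitePresentation (f.left ≫ G.hom) := by rw [Over.w f]; infer_instance
  haveI : Flat (f.left ≫ G.hom) := by rw [Over.w f]; infer_instance
  have hi : ∀ u : S, IsIso (pullback.snd f.left (pullback.fst G.hom (S.fromSpecResidueField u))) := fun u => by
    haveI := hres u
    haveI : IsIso ((Over.pullback (S.fromSpecResidueField u)).map f).left :=
      (Over.forget _).map_isIso ((Over.pullback (S.fromSpecResidueField u)).map f)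
    rw [← (GrpSchLib.HomFibre.map_isPullback f (S.fromSpecResidueField u)).isoPullback_inv_snd]
    infer_instance
  haveI : IsOpenImmersion f.left :=
    FlatMisc.isOpenImmersion_of_fibres G.hom f.left fun u => by
      haveI := hi u
      show IsOpenImmersion (pullback.snd f.left (pullback.fst G.hom (S.fromSpecResidueField u)))
      infer_instance
  haveI : Surjective f.left := ⟨fun p => by
    obtain ⟨q, hq⟩ := FlatMisc.mem_range_fiberι G.hom _ p rfl
    haveI := hi (G.hom p)
    obtain ⟨r, hr⟩ := (pullback.snd f.left (pullback.fst G.hom (S.fromSpecResidueField (G.hom p)))).surjective q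
    refine ⟨pullback.fst f.left _ r, ?_⟩
    rw [← Scheme.Hom.comp_apply, pullback.condition, Scheme.Hom.comp_apply, hr]
    exact hq⟩
  haveI : IsIso f.left := (isIso_iff_isOpenImmersion_and_surjective _).mpr ⟨inferInstance, inferInstance⟩
  haveI : IsIso ((Over.forget _).map f) := ‹IsIso f.left›
  exact isIso_of_reflects_iso f (Over.forget _)

/-- Central homomorphisms. -/
def Central {T G : Over S} [GrpObj G] (i : T ⟶ G) : Prop :=
  ∀ (X : Over S) (t : X ⟶ T) (g : X ⟶ G), (t ≫ i) * g = g * (t ≫ i)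

theorem isCentralizerOf_id {T G : Over S} [GrpObj T] [GrpObj G] {i : T ⟶ G} (h : Central i) :
    Red.IsCentralizerOf i (𝟙 G) :=
  ⟨inferInstance, inferInstance, fun X g => ⟨fun _ X' x t => (h X' t _).symm, fun _ => ⟨g, Category.comp_id g⟩⟩⟩

theorem central_of_centralizer_iso {T G Z : Over S} [GrpObj T] [GrpObj G] [GrpObj Z] {i : T ⟶ G} {z : Z ⟶ G}
    [IsIso z] (hz : Red.IsCentralizerOf i z) : Central i := fun X t g => by
  have := (hz.2.2 X g).mp ⟨g ≫ inv z, by rw [Category.assoc, IsIso.inv_hom_id, Category.comp_id]⟩ X (𝟙 X) t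
  simpa using this.symm

theorem central_bc {S' : Scheme.{u}} (b : S' ⟶ S) {T G : Over S} [GrpObj T] [GrpObj G] {i : T ⟶ G} (h : Central i) :
    Central ((Over.pullback b).map i) := by
  have h1 := Borel.isCentralizerOf_bc b (isCentralizerOf_id h)
  haveI : IsIso ((Over.pullback b).map (𝟙 G)) := inferInstance
  exact central_of_centralizer_iso h1

theorem central_comp_iso {T G G' : Over S} [GrpObj G] [GrpObj G'] {i : T ⟶ G} (h : Central i)
    (a : Grp.mk G ≅ Grp.mk G') : Central (i ≫ a.hom.hom.hom) := fun X t g => by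
  haveI : IsMonHom a.hom.hom.hom := a.hom.hom.isMonHom_hom
  let o : G ≅ G' := (Grp.forget _).mapIso a
  have hg : g = (g ≫ a.inv.hom.hom) ≫ a.hom.hom.hom := by
    rw [Category.assoc]
    exact ((congrArg (g ≫ ·) o.inv_hom_id).trans (Category.comp_id g)).symm
  rw [hg, ← Category.assoc, ← MonObj.mul_comp, h X t, MonObj.mul_comp]

/-- A torus which is central in the geometric fibres is central. -/
theorem central_of_geom {T G : Over S} [GrpObj T] [GrpObj G] [Smooth G.hom] [IsSeparated G.hom]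
    (hT : Red.IsTorus T) (i : T ⟶ G) [IsMonHom i] (h : ∀ s, Central ((Over.pullback (Red.geomPt s)).map i)) :
    Central i := by
  obtain ⟨Z, iZ, z, hz, hzc, hzs⟩ :=
    Deform.exists_centralizer (Deform.isMultType_of_ft (Deform.isMultTypeFT_of_isTorus hT)) i
  letI := iZ
  haveI := hzs
  haveI : LocallyOfFinitePresentation Z.hom := inferInstance
  haveI : IsIso z := isIso_of_geom_fibres z fun s => by
    obtain ⟨e, he⟩ := Borel.exists_iso_centralizer (Borel.isCentralizerOf_bc (Red.geomPt s) hz)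
      (isCentralizerOf_id (h s))
    rw [← he, Category.comp_id]
    infer_instance
  exact central_of_centralizer_iso hz

variable {G : Over S} [GrpObj G] [IsAffineHom G.hom] [Smooth G.hom]

/-- Central maximal tori of the chosen geometric fibre give central maximal tori of all of them. -/
theorem central_max_at {t : S} {r : ℕ} (hr : GRank G t r)
    (hc : ∀ (T : Over (Spec (CommRingCat.of (AlgebraicClosure (S.residueField t))))) [GrpObj T]
      (i : T ⟶ Red.geomFibre t G), AGF.IsMaxTorus i → Central i)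
    {K : Type u} [Field K] [IsAlgClosed K] {z : Spec (CommRingCat.of K) ⟶ S} (ht : t ∈ Set.range z)
    {T₂ : Over (Spec (CommRingCat.of K))} [GrpObj T₂] {i₂ : T₂ ⟶ Red.bc z G} (h₂ : AGF.IsMaxTorus i₂) : Central i₂ := by
  obtain ⟨_, _⟩ := smooth_qc_bc (G := G) z
  obtain ⟨_, _⟩ := smooth_qc_bc (G := G) (Red.geomPt t)
  obtain ⟨T₀, iT₀, i₀, hi₀, hr₀⟩ := hr
  letI := iT₀
  have h₀ := hc T₀ i₀ hi₀
  haveI := hi₀.1
  haveI := hi₀.2.1
  obtain ⟨alg, hz⟩ := exists_ext z ht
  letI := alg
  let a := Deform.ext (AlgebraicClosure (S.residueField t)) K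
  obtain ⟨c⟩ := GrpSchLib.MultTypeBC.bc_bc a (Red.geomPt t) G
  obtain ⟨c'⟩ := GrpSchLib.MultTypeBC.bc_congr hz G
  have h1 := central_comp_iso (central_bc a h₀) (c ≪≫ c')
  have hm := isMaxTorus_comp_iso (max_bc (L := K) hi₀) (c ≪≫ c')
  obtain ⟨g, f, -, hf⟩ := Luna.conj_maxTorus _ _ hm h₂
  intro X x y
  have hx : x ≫ i₂ = (x ≫ f.inv) ≫ ((Over.pullback a).map i₀ ≫ (c ≪≫ c').hom.hom.hom) := by
    rw [show i₂ = f.inv ≫ AGF.conjBy g ((Over.pullback a).map i₀ ≫ (c ≪≫ c').hom.hom.hom) by
      rw [← hf, Iso.inv_hom_id_assoc], ← Category.assoc]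
    simp only [AGF.conjBy, MonObj.comp_mul, GrpObj.comp_inv]
    rw [← h1 X (x ≫ f.inv) ((x ≫ f.inv) ≫ toUnit _ ≫ g), mul_inv_cancel_right]
  rw [hx]
  exact h1 X (x ≫ f.inv) y

/-- A family of maximal tori is central when those of the geometric fibres are. -/
theorem central_of_max {T : Scheme.{u}} {g : T ⟶ S} {K' : Over T} [GrpObj K'] {i : K' ⟶ Red.bc g G}
    (hi : Red.IsMaximalTorus i)
    (hc : ∀ (t : S) (T₀ : Over (Spec (CommRingCat.of (AlgebraicClosure (S.residueField t))))) [GrpObj T₀]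
      (i₀ : T₀ ⟶ Red.geomFibre t G), AGF.IsMaxTorus i₀ → Central i₀) : Central i := by
  haveI := (smooth_qc_bc (G := G) g).1
  haveI := (smooth_qc_bc (G := G) g).2
  haveI : IsAffineHom (Red.bc g G).hom := MorphismProperty.pullback_snd (P := @IsAffineHom) G.hom g ‹_›
  haveI := hi.1
  refine central_of_geom hi.2.2.1 i fun x => ?_
  obtain ⟨r, hr⟩ := exists_gRank G (g x)
  have h2 := Borel.isMaxTorus_geom hi x
  obtain ⟨b⟩ := GrpSchLib.MultTypeBC.bc_bc (Red.geomPt x) g G
  have h3 := central_max_at hr (hc (g x)) (z := Red.geomPt x ≫ g) ⟨IsLocalRing.closedPoint _, by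
    rw [Scheme.Hom.comp_apply, Red.geomPt, Scheme.Hom.comp_apply]
    exact congrArg (fun q => g q) (Scheme.fromSpecResidueField_apply x _)⟩ (isMaxTorus_comp_iso h2 b)
  have h4 := central_comp_iso h3 b.symm
  have : ((Over.pullback (Red.geomPt x)).map i ≫ b.hom.hom.hom) ≫ b.symm.hom.hom.hom =
      (Over.pullback (Red.geomPt x)).map i := by
    rw [Category.assoc]
    exact (congrArg ((Over.pullback (Red.geomPt x)).map i ≫ ·) ((Grp.forget _).mapIso b).hom_inv_id).trans
      (Category.comp_id _)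
  rwa [this] at h4

/-- Central maximal tori are unique. -/
theorem maxFam_unique_central
    (hc : ∀ (t : S) (T₀ : Over (Spec (CommRingCat.of (AlgebraicClosure (S.residueField t))))) [GrpObj T₀]
      (i₀ : T₀ ⟶ Red.geomFibre t G), AGF.IsMaxTorus i₀ → Central i₀)
    {T : Scheme.{u}} (e₁ e₂ : Fam G T) (h : e₁.1 = e₂.1)
    (h₁ : ∀ x, IsMaxAtPt e₁ x) (h₂ : ∀ x, IsMaxAtPt e₂ x) : e₁ = e₂ := by
  obtain ⟨g, Z₁, hZ₁⟩ := e₁
  obtain ⟨g', Z₂, hZ₂⟩ := e₂
  obtain rfl : g = g' := h
  haveI := (smooth_qc_bc (G := G) g).1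
  haveI := (smooth_qc_bc (G := G) g).2
  haveI : QuasiSeparated (Red.bc g G).hom := inferInstanceAs (QuasiSeparated (pullback.snd G.hom g))
  obtain ⟨i₁, hm₁, -⟩ := exists_grp hZ₁
  obtain ⟨i₂, hm₂, -⟩ := exists_grp hZ₂
  letI := i₁
  letI := i₂
  haveI := hm₁
  haveI := hm₂
  have t₁ := isMaximalTorus_of_inLoc (⟨g, Z₁, hZ₁⟩ : Fam G T) h₁
  have t₂ := isMaximalTorus_of_inLoc (⟨g, Z₂, hZ₂⟩ : Fam G T) h₂
  haveI := t₁.2.1
  haveI := t₂.2.1
  obtain ⟨a, ha⟩ := S4120.result T (Red.bc g G) (subK Z₁) (subK Z₂) (subj Z₁) (subj Z₂) t₁ t₂.2.2.1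
    fun X x y => central_of_max t₁ hc X x _
  obtain ⟨b, hb⟩ := S4120.result T (Red.bc g G) (subK Z₂) (subK Z₁) (subj Z₂) (subj Z₁) t₂ t₁.2.2.1
    fun X x y => central_of_max t₂ hc X x _
  exact congrArg (Sigma.mk g) (Subtype.ext (le_antisymm
    (le_of_comap_eq_bot ((exists_factor_iff Z₁ (subj Z₂)).mp ⟨a, ha⟩))
    (le_of_comap_eq_bot ((exists_factor_iff Z₂ (subj Z₁)).mp ⟨b, hb⟩))))

/-- Central maximal tori with locally constant rank: there is one, and it contains all subtori. -/
theorem exists_central_maxTorus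
    (hc : ∀ (t : S) (T₀ : Over (Spec (CommRingCat.of (AlgebraicClosure (S.residueField t))))) [GrpObj T₀]
      (i₀ : T₀ ⟶ Red.geomFibre t G), AGF.IsMaxTorus i₀ → Central i₀)
    (hr : SGA3x.RedRankLocallyConstant G) :
    ∃ (T : Over S) (_ : GrpObj T) (i : T ⟶ G), Red.IsMaximalTorus i ∧ Central i ∧
      ∀ (R : Over S) [GrpObj R] (j : R ⟶ G) [IsMonHom j] [Mono j], Red.IsTorus R → ∃ f : R ⟶ T, f ≫ i = j := by
  obtain ⟨X, u, hsm, hu⟩ := exists_rep_smooth G
  obtain ⟨S', v, hv, hvs, hmax⟩ := exists_etale_maxFam hr u hu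
  obtain ⟨σ, hσ, -⟩ := (covers_of_etale (v ≫ u.1)).desc v fun Y a b hab => by
    refine (hu Y (Fam.pull (a ≫ v) u)).unique rfl ?_
    refine (maxFam_unique_central hc (Fam.pull (a ≫ v) u) (Fam.pull (b ≫ v) u)
      (show (a ≫ v) ≫ u.1 = (b ≫ v) ≫ u.1 by rw [Category.assoc, Category.assoc, hab]) ?_ ?_).symm
    · intro y; rw [Fam.pull_comp]; exact isMaxAtPt_pull a (hmax (a y))
    · intro y; rw [Fam.pull_comp]; exact isMaxAtPt_pull b (hmax (b y))
  haveI := (covers_of_etale (v ≫ u.1)).epi
  have hid : σ ≫ u.1 = 𝟙 S := by rw [← cancel_epi (v ≫ u.1), ← Category.assoc, hσ, Category.comp_id]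
  have hall : ∀ s, IsMaxAtPt (Fam.pull σ u) s := fun s => by
    obtain ⟨s', rfl⟩ := (v ≫ u.1).surjective s
    refine isMaxAtPt_pull σ ?_
    rw [← Scheme.Hom.comp_apply, hσ]
    obtain ⟨r, h1, h2⟩ := hmax s'
    refine ⟨r, inLoc_of_pull v h1, ?_⟩
    rw [← Scheme.Hom.comp_apply]
    exact h2
  let e := Fam.pull σ u
  obtain ⟨iK, hmon, -⟩ := exists_grp e.2.2
  letI := iK
  haveI := hmon
  have hm := isMaximalTorus_of_inLoc e hall
  have hcen := central_of_max hm hc
  obtain ⟨b₁⟩ := GrpSchLib.MultTypeBC.bc_congr hid G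
  let b₀ : Grp.mk (Red.bc (𝟙 S) G) ≅ Grp.mk G :=
    ((Functor.mapGrpNatIso Over.pullbackId) ≪≫ Functor.mapGrpIdIso).app (Grp.mk G)
  have hc' := central_comp_iso hcen (b₁ ≪≫ b₀)
  refine ⟨subK e.2.1, iK, _, isMaximalTorus_comp_iso hm (b₁ ≪≫ b₀), hc', fun R _ j _ _ hR => ?_⟩
  haveI : QuasiCompact G.hom := inferInstance
  exact S4120.result S G (subK e.2.1) R _ j (isMaximalTorus_comp_iso hm (b₁ ≪≫ b₀)) hR fun X t r => hc' X t _

/-- Connected groups with nilpotent geometric fibres. -/
theorem central_of_nilpotent_fibres (hconn : ∀ s : S, ConnectedSpace ↥(Red.geomFibre s G).left)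
    (hnil : ∀ s : S, Group.IsNilpotent
      (𝟙_ (Over (Spec (CommRingCat.of (AlgebraicClosure (S.residueField s))))) ⟶ Red.geomFibre s G))
    (t : S) (T₀ : Over (Spec (CommRingCat.of (AlgebraicClosure (S.residueField t))))) [GrpObj T₀]
    (i₀ : T₀ ⟶ Red.geomFibre t G) (h : AGF.IsMaxTorus i₀) : Central i₀ := by
  obtain ⟨_, _⟩ := smooth_qc_bc (G := G) (Red.geomPt t)
  haveI : Smooth T₀.hom := (Deform.TorusBasic.props h.2.2.1).2.2.1
  haveI := hconn t
  haveI := hnil t
  exact fun X x g => Borel.comm_of_pts i₀ (fun g w => Borel.torus_central_of_nilpotent h g w) x g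

end Groth.Agent.Deform.MaxTori
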