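import Groth.Agent.Deform.MaxTori.Rank

/-!
# Reductive rank at a point

The rank of the maximal tori of a geometric fibre governs the tori of the fibres over all geometric points above the
point.
-/

set_option autoImplicit false
set_option linter.style.haveILetI false
set_option backward.isDefEq.respectTransparency false
set_option backward.isDefEq.respectTransparency.types false
set_option maxHeartbeats 400000

universe u

open CategoryTheory CategoryTheory.Limits MonoidalCategory CartesianMonoidalCategory AlgebraicGeometry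

open scoped MonObj

attribute [local instance] CategoryTheory.Hom.monoid CategoryTheory.Hom.group

namespace Groth.Agent.Deform.MaxTori

open Deform (MaxAt ext)

variable {S : Scheme.{u}}

/-- The geometric fibre at `t` has maximal tori of rank `r`. -/
def GRank (G : Over S) [GrpObj G] (t : S) (r : ℕ) : Prop :=
  ∃ (T : Over (Spec (CommRingCat.of (AlgebraicClosure (S.residueField t))))) (_ : GrpObj T)
    (i : T ⟶ Red.geomFibre t G), AGF.IsMaxTorus i ∧ Red.IsSplitTorusWith (Fin r → ℤ) T

variable {G : Over S} [GrpObj G] [Smooth G.hom] [QuasiCompact G.hom]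

theorem smooth_qc_bc {T : Scheme.{u}} (g : T ⟶ S) :
    Smooth (Red.bc g G).hom ∧ QuasiCompact (Red.bc g G).hom :=
  ⟨inferInstanceAs (Smooth (pullback.snd G.hom g)), inferInstanceAs (QuasiCompact (pullback.snd G.hom g))⟩

variable (G) in
theorem exists_gRank (t : S) : ∃ r, GRank G t r := by
  obtain ⟨_, _⟩ := smooth_qc_bc (G := G) (Red.geomPt t)
  obtain ⟨r, h⟩ := exists_max (Red.geomFibre t G)
  exact ⟨r, h⟩

theorem gRank_unique {t : S} {r r' : ℕ} (h : GRank G t r) (h' : GRank G t r') : r = r' := by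
  obtain ⟨_, _⟩ := smooth_qc_bc (G := G) (Red.geomPt t)
  obtain ⟨T, iT, i, hi, hr⟩ := h
  obtain ⟨T', iT', i', hi', hr'⟩ := h'
  exact rank_eq_of_max hi hi' hr hr'

theorem hasRedRank_iff (t : S) (d : WithBot ℕ∞) :
    SGA3x.HasRedRank G t d ↔ ∃ r : ℕ, d = (r : WithBot ℕ∞) ∧ GRank G t r := by
  constructor
  · rintro ⟨T, iT, i, hi, hd⟩
    letI := iT
    obtain ⟨r, hr⟩ := Deform.exists_split T hi.2.2.1
    exact ⟨r, hd.symm.trans (dim_of_split hr), T, iT, i, Borel.isMaxTorus_of_isMaximalTorus hi, hr⟩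
  · rintro ⟨r, rfl, T, iT, i, hi, hr⟩
    exact ⟨T, iT, i, Borel.isMaximalTorus_of_isMaxTorus hi, dim_of_split hr⟩

/-- Maximal subtori and isomorphisms of the ambient group. -/
theorem isMaxTorus_comp_iso {U : Scheme.{u}} {T P Q : Over U} [GrpObj T] [GrpObj P] [GrpObj Q] {i : T ⟶ P}
    (h : AGF.IsMaxTorus i) (a : Grp.mk P ≅ Grp.mk Q) : AGF.IsMaxTorus (i ≫ a.hom.hom.hom) := by
  obtain ⟨h1, h2, h3, h4⟩ := h
  haveI := h1
  haveI := h2
  haveI : IsMonHom a.hom.hom.hom := a.hom.hom.isMonHom_hom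
  haveI : IsMonHom a.inv.hom.hom := a.inv.hom.isMonHom_hom
  let o : P ≅ Q := (Grp.forget _).mapIso a
  haveI : IsIso a.hom.hom.hom := o.isIso_hom
  haveI : IsIso a.inv.hom.hom := o.isIso_inv
  refine ⟨inferInstance, inferInstance, h3, fun T' _ j _ _ f hT' hf => h4 T' (j ≫ a.inv.hom.hom) f hT' ?_⟩
  rw [← Category.assoc, hf, Category.assoc]
  exact (congrArg (i ≫ ·) o.hom_inv_id).trans (Category.comp_id i)

/-- A morphism from the spectrum of an algebraically closed field factors through the geometric point. -/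
theorem exists_ext {K : Type u} [Field K] [IsAlgClosed K] (z : Spec (CommRingCat.of K) ⟶ S) {t : S}
    (ht : t ∈ Set.range z) :
    ∃ _ : Algebra (AlgebraicClosure (S.residueField t)) K,
      ext (AlgebraicClosure (S.residueField t)) K ≫ Red.geomPt t = z := by
  obtain ⟨p, hp⟩ := ht
  obtain rfl : t = z (IsLocalRing.closedPoint K) := by
    rw [← hp, Subsingleton.elim p (IsLocalRing.closedPoint K)]
  let φ := S.descResidueField (Scheme.stalkClosedPointTo z)
  letI : Algebra (S.residueField (z (IsLocalRing.closedPoint K))) K := φ.hom.toAlgebra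
  let σ : AlgebraicClosure (S.residueField (z (IsLocalRing.closedPoint K))) →ₐ[S.residueField (z (IsLocalRing.closedPoint K))] K :=
    IsAlgClosed.lift (R := S.residueField (z (IsLocalRing.closedPoint K)))
  refine ⟨σ.toRingHom.toAlgebra, ?_⟩
  refine Eq.trans ?_ (Scheme.descResidueField_stalkClosedPointTo_fromSpecResidueField K S z)
  rw [← Category.assoc, ← Spec.map_comp]
  congr 2
  ext x
  exact σ.commutes x

variable {K : Type u} [Field K] [IsAlgClosed K] {z : Spec (CommRingCat.of K) ⟶ S} {t : S} {r : ℕ}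

/-- Over every geometric point above `t` there is a maximal torus of the rank of `t`. -/
theorem exists_max_at (h : GRank G t r) (ht : t ∈ Set.range z) :
    ∃ (T : Over (Spec (CommRingCat.of K))) (_ : GrpObj T) (i : T ⟶ Red.bc z G),
      AGF.IsMaxTorus i ∧ Red.IsSplitTorusWith (Fin r → ℤ) T := by
  obtain ⟨_, _⟩ := smooth_qc_bc (G := G) (Red.geomPt t)
  obtain ⟨T, iT, i, hi, hr⟩ := h
  obtain ⟨alg, hz⟩ := exists_ext z ht
  obtain ⟨a⟩ := GrpSchLib.MultTypeBC.bc_bc (ext (AlgebraicClosure (S.residueField t)) K) (Red.geomPt t) G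
  obtain ⟨b⟩ := GrpSchLib.MultTypeBC.bc_congr hz G
  exact ⟨_, inferInstance, _, isMaxTorus_comp_iso (max_bc hi) (a ≪≫ b), split_bc _ hr⟩

/-- The tori over geometric points above `t` have rank at most that of `t`, with equality only for maximal ones. -/
theorem rank_le_gRank (h : GRank G t r) (ht : t ∈ Set.range z) {R : Over (Spec (CommRingCat.of K))} [GrpObj R]
    (j : R ⟶ Red.bc z G) [IsMonHom j] [Mono j] {r' : ℕ} (hr' : Red.IsSplitTorusWith (Fin r' → ℤ) R) :
    r' ≤ r ∧ (r' = r → AGF.IsMaxTorus j) := by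
  obtain ⟨_, _⟩ := smooth_qc_bc (G := G) z
  obtain ⟨T, iT, i, hi, hr⟩ := exists_max_at h ht
  exact rank_le hi j hr hr'

/-- The rank of a base change. -/
theorem gRank_bc {S' : Scheme.{u}} (e : S' ⟶ S) {s' : S'} (h : GRank G (e s') r) : GRank (Red.bc e G) s' r := by
  obtain ⟨T, iT, i, hi, hr⟩ := exists_max_at (z := Red.geomPt s' ≫ e) h ⟨IsLocalRing.closedPoint _, by
    rw [Scheme.Hom.comp_apply, Red.geomPt, Scheme.Hom.comp_apply]
    exact congrArg (fun q => e q) (Scheme.fromSpecResidueField_apply s' _)⟩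
  obtain ⟨a⟩ := GrpSchLib.MultTypeBC.bc_bc (Red.geomPt s') e G
  exact ⟨T, iT, _, isMaxTorus_comp_iso hi a.symm, hr⟩

end Groth.Agent.Deform.MaxTori
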