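import Groth.Agent.Deform.MaxTori.GRank
import Groth.Agent.Deform.SplitQuot

/-!
# The loci of tori among the subgroups of multiplicative type

For a family of subgroups the points of type `ℤ^r` form an open set; there the subgroup is a torus of rank `r`, and it is
a maximal torus where `r` is the reductive rank.
-/

set_option autoImplicit false
set_option linter.style.haveILetI false
set_option backward.isDefEq.respectTransparency false
set_option backward.isDefEq.respectTransparency.types false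
set_option maxHeartbeats 600000

universe u

open CategoryTheory CategoryTheory.Limits MonoidalCategory CartesianMonoidalCategory AlgebraicGeometry TopologicalSpace

open scoped MonObj

attribute [local instance] CategoryTheory.Hom.monoid CategoryTheory.Hom.group

namespace Groth.Agent.Deform.MaxTori

open SubMT HomMT

/-- The rank of a torus at a point is the rank of its etale splitting there. -/
theorem rank_of_split {T W : Scheme.{u}} {H : Over T} [GrpObj H] (e : W ⟶ T) {M : Type} [AddCommGroup M]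
    [AddGroup.FG M] (d : Grp.mk (Red.bc e H) ≅ Grp.mk (Red.DS W M)) {K : Type u} [Field K]
    (z : Spec (CommRingCat.of K) ⟶ T) {t : T} (htz : t ∈ Set.range z) (hte : t ∈ Set.range e) {r : ℕ}
    (hz : Red.IsSplitTorusWith (Fin r → ℤ) (Red.bc z H)) : Nonempty (M ≃+ (Fin r → ℤ)) := by
  obtain ⟨p, hp⟩ := htz
  obtain ⟨p', hp'⟩ := hte
  obtain ⟨d'⟩ := hz
  obtain ⟨w, -, -⟩ := Scheme.Pullback.exists_preimage_pullback (f := e) (g := z) p' p (hp'.trans hp.symm)
  let y : Spec (CommRingCat.of ((pullback e z).residueField w)) ⟶ pullback e z :=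
    (pullback e z).fromSpecResidueField w
  let a := y ≫ pullback.fst e z
  let a' := y ≫ pullback.snd e z
  obtain ⟨b₁⟩ := GrpSchLib.MultTypeBC.bc_bc a e H
  obtain ⟨b₂⟩ := GrpSchLib.MultTypeBC.bc_iso a d
  obtain ⟨b₃⟩ := GrpSchLib.MultTypeBC.bc_DS a M
  obtain ⟨b₁'⟩ := GrpSchLib.MultTypeBC.bc_bc a' z H
  obtain ⟨b₂'⟩ := GrpSchLib.MultTypeBC.bc_iso a' d'
  obtain ⟨b₃'⟩ := GrpSchLib.MultTypeBC.bc_DS a' (Fin r → ℤ)
  obtain ⟨b₄⟩ := GrpSchLib.MultTypeBC.bc_congr (show a ≫ e = a' ≫ z by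
    simp only [a, a', Category.assoc, pullback.condition]) H
  exact nonempty_addEquiv_of_DS (b₃.symm ≪≫ b₂.symm ≪≫ b₁ ≪≫ b₄ ≪≫ b₁'.symm ≪≫ b₂' ≪≫ b₃')

/-- A group which is etale locally a split torus is a torus. -/
theorem isTorus_of_etale_split {S : Scheme.{u}} {H : Over S} [GrpObj H]
    (h : ∀ s : S, ∃ (W : Scheme.{u}) (g : W ⟶ S) (M : Type) (_ : AddCommGroup M) (r : ℕ), Etale g ∧ s ∈ Set.range g ∧
      Nonempty (M ≃+ (Fin r → ℤ)) ∧ Nonempty (Grp.mk (Red.bc g H) ≅ Grp.mk (Red.DS W M))) : Red.IsTorus H := by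
  choose W g M iM r hg hs hM he using h
  letI := iM
  haveI := hg
  haveI : Etale (Sigma.desc g) := IsZariskiLocalAtSource.sigmaDesc (P := @Etale) fun _ => inferInstance
  haveI : Surjective (Sigma.desc g) := ⟨fun t => by
    obtain ⟨v, hv⟩ := hs t
    exact ⟨Sigma.ι W t v, by rw [← Scheme.Hom.comp_apply, Sigma.ι_desc]; exact hv⟩⟩
  refine ⟨∐ W, Sigma.desc g, inferInstance, inferInstance, GreatestTorus.hcov_of_etale _, fun z => ?_⟩
  obtain ⟨⟨t, y⟩, rfl⟩ := (sigmaMk W).surjective z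
  rw [sigmaMk_mk]
  let U := (Sigma.ι W t).opensRange
  let k : (U : Scheme.{u}) ⟶ W t := (Sigma.ι W t).isoOpensRange.inv
  have hk : k ≫ g t = U.ι ≫ Sigma.desc g := by
    rw [← Sigma.ι_desc g t, ← Category.assoc, Scheme.Hom.isoOpensRange_inv_comp]
  obtain ⟨a₁⟩ := GrpSchLib.MultTypeBC.bc_congr hk H
  obtain ⟨a₂⟩ := GrpSchLib.MultTypeBC.bc_bc k (g t) H
  obtain ⟨a₃⟩ := GrpSchLib.MultTypeBC.bc_iso k (he t).some
  obtain ⟨a₄⟩ := GrpSchLib.MultTypeBC.bc_DS k (M t)
  obtain ⟨a₅⟩ := Deform.SplitQuot.nonempty_DS_congr (S := (U : Scheme.{u})) (hM t).some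
  exact ⟨U, ⟨y, rfl⟩, r t, ⟨a₁.symm ≪≫ a₂.symm ≪≫ a₃ ≪≫ a₄ ≪≫ a₅.symm⟩⟩

variable {S : Scheme.{u}} {G : Over S} [GrpObj G] [IsAffineHom G.hom]

/-- A closed subgroup is isomorphic to the subgroup of its kernel. -/
theorem nonempty_iso_subK {T : Scheme.{u}} {g : T ⟶ S} {K' : Over T} [GrpObj K'] (j' : K' ⟶ Red.bc g G)
    [IsMonHom j'] [IsClosedImmersion j'.left] [GrpObj (subK j'.left.ker)] [IsMonHom (subj j'.left.ker)] :
    Nonempty (Grp.mk K' ≅ Grp.mk (subK j'.left.ker)) := by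
  let l : K' ⟶ subK j'.left.ker := Over.homMk j'.left.toImage (by
    show j'.left.toImage ≫ j'.left.imageι ≫ pullback.snd G.hom g = K'.hom
    rw [← Category.assoc, Scheme.Hom.toImage_imageι]
    exact Over.w j')
  have hl : l ≫ subj j'.left.ker = j' := Over.OverMorphism.ext j'.left.toImage_imageι
  haveI : Mono (subj j'.left.ker).left := inferInstanceAs (Mono j'.left.ker.subschemeι)
  haveI : Mono (subj j'.left.ker) := Over.mono_of_mono_left _
  haveI : IsMonHom l := Deform.isMonHom_of_comp l (subj j'.left.ker) (i := j') hl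
  haveI : IsIso ((Over.forget T).map l) := inferInstanceAs (IsIso j'.left.toImage)
  haveI : IsIso l := isIso_of_reflects_iso _ (Over.forget T)
  let il : K' ≅ subK j'.left.ker := asIso l
  haveI : IsMonHom il.hom := ‹IsMonHom l›
  exact ⟨Grp.mkIso' il⟩

/-- The points of type `ℤ^r`. -/
def InLoc {T : Scheme.{u}} (e : Fam G T) (r : ℕ) (x : T) : Prop :=
  ∃ (V : S.affineOpens) (B : Type u) (_ : CommRing B) (_ : Algebra (RV V) B) (w : Spec (CommRingCat.of B) ⟶ T)
    (M : Type) (_ : AddCommGroup M) (ψ : AV G V →ₐ[RV V] MA M B),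
    Etale w ∧ x ∈ Set.range w ∧ Nonempty (M ≃+ (Fin r → ℤ)) ∧ IsTriv G e.1 e.2.1 V w ψ

theorem isOpen_inLoc {T : Scheme.{u}} (e : Fam G T) (r : ℕ) : IsOpen {x | InLoc e r x} := by
  refine isOpen_iff_forall_mem_open.mpr fun x ⟨V, B, i₁, i₂, w, M, i₃, ψ, hw, hx, hM, htr⟩ => ?_
  haveI := hw
  exact ⟨Set.range w, fun y hy => ⟨V, B, i₁, i₂, w, M, i₃, ψ, hw, hy, hM, htr⟩, w.isOpenMap.isOpen_range, hx⟩

theorem inLoc_pull {T T' : Scheme.{u}} (f : T' ⟶ T) {e : Fam G T} {r : ℕ} {x : T'} (h : InLoc e r (f x)) :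
    InLoc (Fam.pull f e) r x := by
  obtain ⟨V, B, _, _, w, M, _, ψ, hw, ⟨b, hb⟩, hM, htr⟩ := h
  obtain ⟨z, hz, -⟩ := Scheme.Pullback.exists_preimage_pullback (f := f) (g := w) x b hb.symm
  obtain ⟨B', _, _, σ, j, hj, ⟨z', hz'⟩, hjx⟩ := exists_affine_refine (R := RV V) (pullback.snd f w) z
  refine ⟨V, B', inferInstance, inferInstance, j ≫ pullback.fst f w, M, inferInstance, _, inferInstance,
    ⟨z', by rw [Scheme.Hom.comp_apply, hz', hz]⟩, hM, htr.map σ f rfl _ ?_⟩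
  rw [Category.assoc, pullback.condition, reassoc_of% hjx]

/-- Over the locus the subgroup is a torus. -/
theorem isTorus_of_inLoc {T : Scheme.{u}} (e : Fam G T) (h : ∀ x, ∃ r, InLoc e r x) [GrpObj (subK e.2.1)]
    [IsMonHom (subj e.2.1)] : Red.IsTorus (subK e.2.1) := by
  refine isTorus_of_etale_split fun x => ?_
  obtain ⟨r, V, B, _, _, w, M, _, ψ, hw, hx, hM, htr⟩ := h x
  exact ⟨_, w, M, inferInstance, r, hw, hx, hM, nonempty_iso_of_triv htr⟩

/-- Over a field point in the locus the torus has rank `r`. -/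
theorem rank_inLoc {T : Scheme.{u}} (e : Fam G T) [GrpObj (subK e.2.1)] [IsMonHom (subj e.2.1)] {r : ℕ} {x : T}
    (h : InLoc e r x) {K : Type u} [Field K] (z : Spec (CommRingCat.of K) ⟶ T) (hx : x ∈ Set.range z) {r' : ℕ}
    (hz : Red.IsSplitTorusWith (Fin r' → ℤ) (Red.bc z (subK e.2.1))) : r = r' := by
  obtain ⟨V, B, _, _, w, M, _, ψ, hw, hxw, ⟨hM⟩, htr⟩ := h
  obtain ⟨d⟩ := nonempty_iso_of_triv htr
  haveI : AddGroup.FG (Fin r → ℤ) := Module.Finite.iff_addGroup_fg.mp inferInstance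
  haveI : AddGroup.FG M := AddGroup.fg_of_surjective (f := hM.symm.toAddMonoidHom) hM.symm.surjective
  obtain ⟨a⟩ := rank_of_split w d z hx hxw hz
  simpa using ((hM.symm.trans a).toIntLinearEquiv.finrank_eq)

/-- A split subtorus of a geometric fibre gives a family whose point is of type `ℤ^r`. -/
theorem exists_fam_of_torus [LocallyOfFiniteType G.hom] {K : Type u} [Field K] (z : Spec (CommRingCat.of K) ⟶ S)
    {R : Over (Spec (CommRingCat.of K))} [GrpObj R] (j : R ⟶ Red.bc z G) [IsMonHom j] [Mono j] {r : ℕ}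
    (hr : Red.IsSplitTorusWith (Fin r → ℤ) R) :
    ∃ e : Fam G (Spec (CommRingCat.of K)), e.1 = z ∧ ∀ p, InLoc e r p := by
  have hR := Deform.isTorus_of_split r hr
  obtain ⟨hRa, hRl, -, -⟩ := Deform.TorusBasic.props hR
  haveI := hRl; haveI := hRa
  haveI : QuasiCompact R.hom := quasiCompact_of_compactSpace _
  haveI : LocallyOfFiniteType (Red.bc z G).hom := inferInstanceAs (LocallyOfFiniteType (pullback.snd G.hom z))
  haveI := Borel.isClosedImmersion_of_mono j
  have hK := Deform.isMultTypeFT_of_isTorus hR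
  refine ⟨⟨z, j.left.ker, isSub_ker j hK⟩, rfl, fun p => ?_⟩
  obtain ⟨iK, hmon, -⟩ := exists_grp (isSub_ker j hK)
  letI := iK
  haveI := hmon
  obtain ⟨V, hV, hpV, -⟩ := exists_isAffineOpen_mem_and_subset (X := S) (x := z p) (U := ⊤) trivial
  obtain ⟨B, _, _, w, M, _, ψ, hw, hp, hM, htr⟩ := exists_triv_of_grp j hK ⟨V, hV⟩ p hpV
  haveI := hM
  obtain ⟨d⟩ := nonempty_iso_of_triv htr
  obtain ⟨a⟩ := nonempty_iso_subK j
  obtain ⟨a'⟩ := GrpSchLib.MultTypeBC.bc_iso (𝟙 (Spec (CommRingCat.of K))) a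
  obtain ⟨c⟩ := split_bc (𝟙 (Spec (CommRingCat.of K))) hr
  exact ⟨_, B, inferInstance, inferInstance, w, M, inferInstance, ψ, hw, hp,
    rank_of_split w d (𝟙 _) ⟨p, rfl⟩ hp ⟨a'.symm ≪≫ c⟩, htr⟩

/-- The subgroup of a family is a maximal torus where its rank is the reductive rank. -/
theorem isMaximalTorus_of_inLoc [Smooth G.hom] {T : Scheme.{u}} (e : Fam G T)
    (h : ∀ x, ∃ r, InLoc e r x ∧ GRank G (e.1 x) r) [GrpObj (subK e.2.1)] [IsMonHom (subj e.2.1)] :
    Red.IsMaximalTorus (subj e.2.1) := by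
  have hT := isTorus_of_inLoc e fun x => (h x).imp fun _ hr => hr.1
  haveI : Mono (subj e.2.1).left := inferInstanceAs (Mono e.2.1.subschemeι)
  haveI : Mono (subj e.2.1) := Over.mono_of_mono_left _
  haveI : Smooth (Red.bc e.1 G).hom := inferInstanceAs (Smooth (pullback.snd G.hom e.1))
  haveI : QuasiCompact (Red.bc e.1 G).hom := inferInstanceAs (QuasiCompact (pullback.snd G.hom e.1))
  refine ⟨inferInstance, inferInstance, hT, fun s => ?_⟩
  obtain ⟨r, hr, hrk⟩ := h s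
  have hs : s ∈ Set.range (Red.geomPt s) := ⟨IsLocalRing.closedPoint _, by
    rw [Red.geomPt, Scheme.Hom.comp_apply]
    exact Scheme.fromSpecResidueField_apply s _⟩
  obtain ⟨r', hr'⟩ := Deform.exists_split _ (Deform.isTorus_bc (Red.geomPt s) hT)
  obtain rfl := rank_inLoc e hr (Red.geomPt s) hs hr'
  exact ((rank_le_gRank (gRank_bc e.1 hrk) hs ((Over.pullback (Red.geomPt s)).map (subj e.2.1)) hr').2 rfl).2.2.2

end Groth.Agent.Deform.MaxTori
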