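import Groth.Agent.Deform.Luna.MaxBC
import Groth.Agent.Deform.Luna.MaxTorusConj
import Groth.Agent.Deform.TorusExist.Artinian
import Groth.Agent.Deform.TorsDeg.Torus
import Groth.Agent.Deform.SubMT.Type
import Groth.Agent.Deform.CartanNorm.TorusNhd
import Groth.Agent.Deform.Borel.CartanFacts

/-!
# The reductive rank of a geometric fibre

Over an algebraically closed field the maximal tori of a smooth group are split of one and the same rank, this rank
bounds the rank of every subtorus and it does not change under extensions of algebraically closed fields.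
-/

set_option autoImplicit false
set_option linter.style.haveILetI false
set_option backward.isDefEq.respectTransparency false
set_option backward.isDefEq.respectTransparency.types false
set_option maxHeartbeats 400000

universe u

open CategoryTheory CategoryTheory.Limits MonoidalCategory CartesianMonoidalCategory AlgebraicGeometry

open scoped MonObj

attribute [local instance] CategoryTheory.Hom.monoid CategoryTheory.Hom.group

namespace Groth.Agent.Deform.MaxTori

open Deform (MaxAt ext)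
open GrpSchLib.AffineHopf (sp nonempty_DS_iso)

variable {K : Type u} [Field K]

/-- The dimension of a split torus is its rank. -/
theorem dim_of_split {T : Over (Spec (CommRingCat.of K))} [GrpObj T] {r : ℕ}
    (h : Red.IsSplitTorusWith (Fin r → ℤ) T) : topologicalKrullDim ↥T.left = (r : WithBot ℕ∞) := by
  obtain ⟨e⟩ := h
  obtain ⟨a⟩ := nonempty_DS_iso K (Fin r → ℤ)
  let e' := a ≪≫ e.symm
  haveI : IsIso e'.hom.hom.hom.left := ((Grp.forget _ ⋙ Over.forget _).mapIso e').isIso_hom
  have hh : topologicalKrullDim (sp K (MonoidAlgebra K (Multiplicative (Fin r → ℤ)))).left =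
      topologicalKrullDim ↥T.left :=
    e'.hom.hom.hom.left.homeomorph.isHomeomorph.topologicalKrullDim_eq
  rw [← hh]
  show topologicalKrullDim (PrimeSpectrum (MonoidAlgebra K (Multiplicative (Fin r → ℤ)))) = _
  rw [PrimeSpectrum.topologicalKrullDim_eq_ringKrullDim, TorsDeg.ringKrullDim_laurent r]

/-- Base change of a split torus. -/
theorem split_bc {S S' : Scheme.{u}} (g : S' ⟶ S) {T : Over S} [GrpObj T] {r : ℕ}
    (h : Red.IsSplitTorusWith (Fin r → ℤ) T) : Red.IsSplitTorusWith (Fin r → ℤ) (Red.bc g T) := by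
  obtain ⟨e⟩ := h
  obtain ⟨a⟩ := GrpSchLib.MultTypeBC.bc_iso g e
  obtain ⟨b⟩ := GrpSchLib.MultTypeBC.bc_DS g (Fin r → ℤ)
  exact ⟨a ≪≫ b⟩

/-- A split torus has one rank. -/
theorem rank_unique {T : Over (Spec (CommRingCat.of K))} [GrpObj T] {r r' : ℕ}
    (h : Red.IsSplitTorusWith (Fin r → ℤ) T) (h' : Red.IsSplitTorusWith (Fin r' → ℤ) T) : r = r' := by
  have h1 : ((r : ℕ∞) : WithBot ℕ∞) = ((r' : ℕ∞) : WithBot ℕ∞) := (dim_of_split h).symm.trans (dim_of_split h')
  exact_mod_cast h1

variable [IsAlgClosed K] {G : Over (Spec (CommRingCat.of K))} [GrpObj G] [Smooth G.hom] [QuasiCompact G.hom]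

/-- Maximal subtori have the same rank. -/
theorem rank_eq_of_max {T₁ T₂ : Over (Spec (CommRingCat.of K))} [GrpObj T₁] [GrpObj T₂] {i₁ : T₁ ⟶ G} {i₂ : T₂ ⟶ G}
    (h₁ : AGF.IsMaxTorus i₁) (h₂ : AGF.IsMaxTorus i₂) {r₁ r₂ : ℕ} (e₁ : Red.IsSplitTorusWith (Fin r₁ → ℤ) T₁)
    (e₂ : Red.IsSplitTorusWith (Fin r₂ → ℤ) T₂) : r₁ = r₂ := by
  obtain ⟨g, f, hf, -⟩ := Luna.conj_maxTorus i₁ i₂ h₁ h₂
  haveI : IsIso f.hom.left := ((Over.forget _).mapIso f).isIso_hom
  have hh : topologicalKrullDim ↥T₁.left = topologicalKrullDim ↥T₂.left :=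
    f.hom.left.homeomorph.isHomeomorph.topologicalKrullDim_eq
  rw [dim_of_split e₁, dim_of_split e₂] at hh
  have h1 : ((r₁ : ℕ∞) : WithBot ℕ∞) = ((r₂ : ℕ∞) : WithBot ℕ∞) := hh
  exact_mod_cast h1

variable (G) in
/-- A smooth group has a split maximal subtorus. -/
theorem exists_max : ∃ (r : ℕ) (T : Over (Spec (CommRingCat.of K))) (_ : GrpObj T) (i : T ⟶ G),
    AGF.IsMaxTorus i ∧ Red.IsSplitTorusWith (Fin r → ℤ) T := by
  obtain ⟨T, iT, i, hi⟩ := TorusExist.exists_maxTorus G
  letI := iT
  obtain ⟨r, hr⟩ := Deform.exists_split T hi.2.2.1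
  exact ⟨r, T, iT, i, Borel.isMaxTorus_of_isMaximalTorus hi, hr⟩

/-- The rank of a subtorus is at most the rank of the maximal ones, with equality only for maximal ones. -/
theorem rank_le {T R : Over (Spec (CommRingCat.of K))} [GrpObj T] [GrpObj R] {i : T ⟶ G} (hi : AGF.IsMaxTorus i)
    (j : R ⟶ G) [IsMonHom j] [Mono j] {r r' : ℕ} (hr : Red.IsSplitTorusWith (Fin r → ℤ) T)
    (hr' : Red.IsSplitTorusWith (Fin r' → ℤ) R) : r' ≤ r ∧ (r' = r → AGF.IsMaxTorus j) := by
  obtain ⟨T', iT', i', f, hT', hf⟩ :=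
    TorusExist.exists_maxTorus_ge (A := K) G R j (Deform.isTorus_of_split r' hr')
  letI := iT'
  haveI := hT'.1
  haveI := hT'.2.1
  obtain ⟨r'', hr''⟩ := Deform.exists_split T' hT'.2.2.1
  have hT'm := Borel.isMaxTorus_of_isMaximalTorus hT'
  obtain rfl : r = r'' := rank_eq_of_max hi hT'm hr hr''
  haveI : IsMonHom f := Deform.isMonHom_of_comp f i' (i := j) hf
  haveI : Mono (f ≫ i') := by rw [hf]; infer_instance
  haveI : Mono f := mono_of_mono f i'
  obtain ⟨hTa, hTl, hTs, hTc⟩ := Deform.TorusBasic.props hT'.2.2.1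
  haveI := hTl; haveI := hTs; haveI := hTc; haveI := hTa
  obtain ⟨hRa, hRl, -, -⟩ := Deform.TorusBasic.props (Deform.isTorus_of_split r' hr')
  haveI := hRl; haveI := hRa
  haveI : QuasiCompact R.hom := quasiCompact_of_compactSpace _
  haveI := Borel.isClosedImmersion_of_mono f
  refine ⟨?_, fun heq => ?_⟩
  · have h := f.left.isClosedEmbedding.isEmbedding.isInducing.topologicalKrullDim_le
    rw [dim_of_split hr', dim_of_split hr''] at h
    have h1 : ((r' : ℕ∞) : WithBot ℕ∞) ≤ ((r : ℕ∞) : WithBot ℕ∞) := h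
    exact_mod_cast h1
  · subst heq
    have hd : topologicalKrullDim ↥T'.left = topologicalKrullDim ↥R.left := by
      rw [dim_of_split hr'', dim_of_split hr']
    haveI : IsIso f := CartanNorm.isIso_of_dim_eq f (by
      rw [dim_of_split hr'']
      exact WithBot.coe_injective.ne (ENat.coe_ne_top r')) hd
    refine ⟨inferInstance, inferInstance, Deform.isTorus_of_split r' hr', fun T'' _ q _ _ a hT'' ha => ?_⟩
    haveI : IsIso (inv f ≫ a) := hT'm.2.2.2 T'' q (inv f ≫ a) hT'' (by rw [Category.assoc, ha, IsIso.inv_comp_eq, hf])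
    exact IsIso.of_isIso_comp_left (inv f) a

/-- Maximal subtori stay maximal under extensions of algebraically closed fields. -/
theorem max_bc {L : Type u} [Field L] [IsAlgClosed L] [Algebra K L] {T : Over (Spec (CommRingCat.of K))} [GrpObj T]
    {i : T ⟶ G} (hi : AGF.IsMaxTorus i) : AGF.IsMaxTorus ((Over.pullback (ext K L)).map i) := by
  obtain ⟨h1, h2, h3, h4⟩ := hi
  haveI := h1
  haveI := h2
  exact ⟨inferInstance, inferInstance, Deform.isTorus_bc _ h3, Luna.maxAt_bc_smooth h3 i h4⟩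

end Groth.Agent.Deform.MaxTori
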