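import Groth.Agent.Deform.MaxTori.Locus
import Groth.Agent.S4120
import Groth.Agent.S0412

/-!
# Maximal tori from the scheme of subgroups of multiplicative type

The tori of maximal rank form an open subscheme, smooth over the base; it gives the semicontinuity of the reductive rank
and maximal tori etale locally where the rank is locally constant.
-/

set_option autoImplicit false
set_option linter.style.haveILetI false
set_option backward.isDefEq.respectTransparency false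
set_option backward.isDefEq.respectTransparency.types false
set_option maxHeartbeats 600000

universe u

open CategoryTheory CategoryTheory.Limits MonoidalCategory CartesianMonoidalCategory AlgebraicGeometry TopologicalSpace

open scoped MonObj

attribute [local instance] CategoryTheory.Hom.monoid CategoryTheory.Hom.group

namespace Groth.Agent.Deform.MaxTori

open SubMT HomMT

variable {S : Scheme.{u}}

theorem mem_range_geomPt (s : S) : s ∈ Set.range (Red.geomPt s) := ⟨IsLocalRing.closedPoint _, by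
  rw [Red.geomPt, Scheme.Hom.comp_apply]
  exact Scheme.fromSpecResidueField_apply s _⟩

/-- Maximal tori and isomorphisms of the ambient group. -/
theorem isMaximalTorus_comp_iso {T P Q : Over S} [GrpObj T] [GrpObj P] [GrpObj Q] {i : T ⟶ P}
    (h : Red.IsMaximalTorus i) (a : Grp.mk P ≅ Grp.mk Q) : Red.IsMaximalTorus (i ≫ a.hom.hom.hom) := by
  have hg := Borel.isMaxTorus_geom h
  obtain ⟨h1, h2, h3, -⟩ := h
  haveI := h1
  haveI := h2
  haveI : IsMonHom a.hom.hom.hom := a.hom.hom.isMonHom_hom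
  let o : P ≅ Q := (Grp.forget _).mapIso a
  haveI : IsIso a.hom.hom.hom := o.isIso_hom
  refine ⟨inferInstance, inferInstance, h3, fun s T' _ j _ _ f hT' hf => ?_⟩
  have := isMaxTorus_comp_iso (hg s) ((Over.pullback (Red.geomPt s)).mapGrp.mapIso a)
  refine this.2.2.2 T' j f hT' ?_
  rw [hf, Functor.map_comp]
  rfl

variable {G : Over S} [GrpObj G] [IsAffineHom G.hom]

theorem inLoc_of_pull {T T' : Scheme.{u}} (f : T' ⟶ T) {e : Fam G T} {r : ℕ} {x : T'}
    (h : InLoc (Fam.pull f e) r x) : InLoc e r (f x) := by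
  obtain ⟨V, B, _, _, w, M, _, ψ, -, ⟨p, hp⟩, ⟨hM⟩, htr⟩ := h
  obtain ⟨W, hxV'⟩ : ∃ W : S.affineOpens, e.1 (f x) ∈ W.1 := by
    obtain ⟨V', hV', hxV', -⟩ :=
      exists_isAffineOpen_mem_and_subset (X := S) (x := e.1 (f x)) (U := ⊤) trivial
    exact ⟨⟨V', hV'⟩, hxV'⟩
  obtain ⟨B', _, _, w', M', _, ψ', hw', ⟨p', hp'⟩, hM', htr'⟩ := exists_triv e.2.2 W (f x) hxV'
  obtain ⟨z, hz, -⟩ := Scheme.Pullback.exists_preimage_pullback (f := f) (g := w') x p' hp'.symm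
  obtain ⟨B'', _, _, σ, j, hj, ⟨z', hz'⟩, hjx⟩ := exists_affine_refine (R := RV W)
    (pullback.snd f w') z
  have htr'' : IsTriv G (Fam.pull f e).1 (Fam.pull f e).2.1 W (j ≫ pullback.fst f w')
      ((push σ).comp ψ') := htr'.map σ f rfl _ (by rw [Category.assoc, pullback.condition, reassoc_of% hjx])
  haveI := hM'
  obtain ⟨a⟩ := type_unique (Fam.pull f e).2.2 htr'' htr z' p (by rw [Scheme.Hom.comp_apply, hz', hz, hp])
  exact ⟨_, B', inferInstance, inferInstance, w', M', inferInstance, ψ', hw', ⟨p', hp'⟩, ⟨a.trans hM⟩, htr'⟩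

/-- The subgroup of a family over a geometric point bounds the rank. -/
theorem le_gRank_of_inLoc [Smooth G.hom] {T : Scheme.{u}} (e : Fam G T) {r m : ℕ} {x : T} (h : InLoc e m x)
    (hr : GRank G (e.1 x) r) : m ≤ r := by
  haveI := (smooth_qc_bc (G := G) e.1).1
  haveI := (smooth_qc_bc (G := G) e.1).2
  obtain ⟨iK, hmon, -⟩ := exists_grp e.2.2
  letI := iK
  haveI := hmon
  haveI : Mono (subj e.2.1).left := inferInstanceAs (Mono e.2.1.subschemeι)
  haveI : Mono (subj e.2.1) := Over.mono_of_mono_left _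
  -- the fibre is split
  let z := Red.geomPt x
  obtain ⟨V, B, _, _, w, M, _, ψ, hw, hxw, hM, htr⟩ := id h
  obtain ⟨d⟩ := nonempty_iso_of_triv htr
  obtain ⟨p, hp⟩ := mem_range_geomPt x
  obtain ⟨q, hq⟩ := hxw
  obtain ⟨y, -, -⟩ := Scheme.Pullback.exists_preimage_pullback (f := w) (g := z) q p (hq.trans hp.symm)
  let a := (pullback w z).fromSpecResidueField y ≫ pullback.fst w z
  let a' := (pullback w z).fromSpecResidueField y ≫ pullback.snd w z
  let z' : Spec (CommRingCat.of (AlgebraicClosure ((pullback w z).residueField y))) ⟶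
      Spec (CommRingCat.of ((pullback w z).residueField y)) :=
    Spec.map (CommRingCat.ofHom (algebraMap _ (AlgebraicClosure ((pullback w z).residueField y))))
  obtain ⟨b₁⟩ := GrpSchLib.MultTypeBC.bc_bc (z' ≫ a) w (subK e.2.1)
  obtain ⟨b₂⟩ := GrpSchLib.MultTypeBC.bc_iso (z' ≫ a) d
  obtain ⟨b₃⟩ := GrpSchLib.MultTypeBC.bc_DS (z' ≫ a) M
  obtain ⟨b₄⟩ := Deform.SplitQuot.nonempty_DS_congr
    (S := Spec (CommRingCat.of (AlgebraicClosure ((pullback w z).residueField y)))) hM.some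
  have hz : x ∈ Set.range ((z' ≫ a) ≫ w) := ⟨IsLocalRing.closedPoint _, by
    have : (z' ≫ a) ≫ w = (z' ≫ a') ≫ z := by simp only [a, a', Category.assoc, pullback.condition]
    rw [this, Scheme.Hom.comp_apply, Subsingleton.elim ((z' ≫ a') (IsLocalRing.closedPoint _)) p, hp]⟩
  have hsplit : Red.IsSplitTorusWith (Fin m → ℤ) (Red.bc ((z' ≫ a) ≫ w) (subK e.2.1)) :=
    ⟨b₁.symm ≪≫ b₂ ≪≫ b₃ ≪≫ b₄.symm⟩
  exact (rank_le_gRank (gRank_bc e.1 hr) hz ((Over.pullback ((z' ≫ a) ≫ w)).map (subj e.2.1)) hsplit).1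

/-- A point where a family is a maximal torus. -/
def IsMaxAtPt {T : Scheme.{u}} (e : Fam G T) (x : T) : Prop := ∃ r, InLoc e r x ∧ GRank G (e.1 x) r

theorem isMaxAtPt_pull {T T' : Scheme.{u}} (f : T' ⟶ T) {e : Fam G T} {x : T'} (h : IsMaxAtPt e (f x)) :
    IsMaxAtPt (Fam.pull f e) x := by
  obtain ⟨r, h1, h2⟩ := h
  refine ⟨r, inLoc_pull f h1, ?_⟩
  show GRank G ((f ≫ e.1) x) r
  rw [Scheme.Hom.comp_apply]
  exact h2

/-- A maximal torus gives a family which is a maximal torus at every point. -/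
theorem exists_fam_of_maxTorus [Smooth G.hom] {T : Scheme.{u}} (g : T ⟶ S) {K' : Over T} [GrpObj K']
    (i : K' ⟶ Red.bc g G) (hi : Red.IsMaximalTorus i) :
    ∃ e : Fam G T, e.1 = g ∧ ∀ x, IsMaxAtPt e x := by
  haveI := (smooth_qc_bc (G := G) g).1
  haveI := (smooth_qc_bc (G := G) g).2
  have hgeo := Borel.isMaxTorus_geom hi
  obtain ⟨h1, h2, hT, -⟩ := hi
  haveI := h1
  haveI := h2
  haveI : IsAffineHom (Red.bc g G).hom := MorphismProperty.pullback_snd (P := @IsAffineHom) G.hom g ‹_›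
  haveI : IsClosedImmersion i.left := Deform.isClosedImmersion_of_mono
    (Deform.isMultType_of_ft (Deform.isMultTypeFT_of_isTorus hT)) i
  have hK := Deform.isMultTypeFT_of_isTorus hT
  refine ⟨⟨g, i.left.ker, isSub_ker i hK⟩, rfl, fun x => ?_⟩
  obtain ⟨iK, hmon, -⟩ := exists_grp (isSub_ker i hK)
  letI := iK
  haveI := hmon
  obtain ⟨r, hr⟩ := Deform.exists_split _ (Deform.isTorus_bc (Red.geomPt x) hT)
  obtain ⟨r₀, hr₀⟩ := exists_gRank G (g x)
  obtain rfl := gRank_unique (gRank_bc g hr₀) ⟨_, inferInstance, _, hgeo x, hr⟩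
  refine ⟨r₀, ?_, hr₀⟩
  obtain ⟨V, hV, hxV, -⟩ := exists_isAffineOpen_mem_and_subset (X := S) (x := g x) (U := ⊤) trivial
  obtain ⟨B, _, _, w, M, _, ψ, hw, hxw, hM, htr⟩ := exists_triv_of_grp i hK ⟨V, hV⟩ x hxV
  haveI := hM
  obtain ⟨d⟩ := nonempty_iso_of_triv htr
  obtain ⟨a⟩ := nonempty_iso_subK i
  obtain ⟨a'⟩ := GrpSchLib.MultTypeBC.bc_iso (Red.geomPt x) a
  obtain ⟨c⟩ := hr
  exact ⟨_, B, inferInstance, inferInstance, w, M, inferInstance, ψ, hw, hxw,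
    rank_of_split w d (Red.geomPt x) (mem_range_geomPt x) hxw ⟨a'.symm ≪≫ c⟩, htr⟩

variable (G) in
/-- The scheme of subgroups of multiplicative type of a smooth group. -/
theorem exists_rep_smooth [Smooth G.hom] : ∃ (X : Scheme.{u}) (u : Fam G X), Smooth u.1 ∧
    ∀ (T : Scheme.{u}) (e : Fam G T), ∃! v : T ⟶ X, Fam.pull v u = e := by
  obtain ⟨κ, V, c, hcov⟩ := exists_charts_smooth (G := G)
  obtain ⟨X, p, u, rfl, hu, huniv, w, hwo, hw, hrange⟩ := exists_rep c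
  haveI := hwo
  refine ⟨X, u, smooth_of_charts c u w hw fun x => ?_, fun T e => huniv T e (hcov T e)⟩
  obtain ⟨i, hi⟩ := hu x
  exact ⟨i, (hrange i x).mpr hi⟩

/-- A point with a torus of rank `r` lifts to the locus of type `ℤ^r`. -/
theorem exists_point_of_gRank [Smooth G.hom] {X : Scheme.{u}} (u : Fam G X)
    (hu : ∀ (T : Scheme.{u}) (e : Fam G T), ∃! v : T ⟶ X, Fam.pull v u = e) {t : S} {r : ℕ} (h : GRank G t r) :
    ∃ x, u.1 x = t ∧ InLoc u r x := by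
  obtain ⟨T, iT, i, hi, hr⟩ := h
  letI := iT
  haveI := hi.1
  haveI := hi.2.1
  obtain ⟨e, he, hloc⟩ := exists_fam_of_torus (Red.geomPt t) i hr
  obtain ⟨v, hv, -⟩ := hu _ e
  obtain ⟨p, hp⟩ := mem_range_geomPt t
  refine ⟨v p, ?_, inLoc_of_pull v (hv ▸ hloc p)⟩
  rw [← Scheme.Hom.comp_apply, show v ≫ u.1 = Red.geomPt t from (congrArg Sigma.fst hv).trans he, hp]

/-- Lower semicontinuity of the reductive rank. -/
theorem isOpen_gRank_ge [Smooth G.hom] (n : ℕ) : IsOpen {t : S | ∃ r, GRank G t r ∧ n ≤ r} := by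
  obtain ⟨X, u, hsm, hu⟩ := exists_rep_smooth G
  have : {t : S | ∃ r, GRank G t r ∧ n ≤ r} = u.1 '' {x | ∃ m, n ≤ m ∧ InLoc u m x} := by
    ext t
    constructor
    · rintro ⟨r, hr, hn⟩
      obtain ⟨x, hx, hloc⟩ := exists_point_of_gRank u hu hr
      exact ⟨x, ⟨r, hn, hloc⟩, hx⟩
    · rintro ⟨x, ⟨m, hn, hloc⟩, rfl⟩
      obtain ⟨r, hr⟩ := exists_gRank G (u.1 x)
      exact ⟨r, hr, hn.trans (le_gRank_of_inLoc u hloc hr)⟩
  rw [this]
  refine u.1.isOpenMap _ ?_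
  rw [show {x | ∃ m, n ≤ m ∧ InLoc u m x} = ⋃ (m) (_ : n ≤ m), {x | InLoc u m x} by ext x; simp]
  exact isOpen_biUnion fun m _ => isOpen_inLoc u m

/-- Where the rank is locally constant maximal tori exist etale locally. -/
theorem exists_etale_maxFam [Smooth G.hom] (hr : SGA3x.RedRankLocallyConstant G) {X : Scheme.{u}} (u : Fam G X)
    [Smooth u.1] (hu : ∀ (T : Scheme.{u}) (e : Fam G T), ∃! v : T ⟶ X, Fam.pull v u = e) :
    ∃ (S' : Scheme.{u}) (v : S' ⟶ X), Etale (v ≫ u.1) ∧ Surjective (v ≫ u.1) ∧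
      ∀ x, IsMaxAtPt (Fam.pull v u) x := by
  have key : ∀ s : S, ∃ (W : Scheme.{u}) (v : W ⟶ X), Etale (v ≫ u.1) ∧ s ∈ Set.range (v ≫ u.1) ∧
      ∀ y, IsMaxAtPt u (v y) := fun s => by
    obtain ⟨U, hsU, d, hd⟩ := hr s
    obtain ⟨r, rfl, hrk⟩ := (hasRedRank_iff s d).mp (hd s hsU)
    have hU : ∀ t ∈ U, GRank G t r := fun t ht => by
      obtain ⟨r', hr', hrk'⟩ := (hasRedRank_iff t _).mp (hd t ht)
      obtain rfl : r = r' := by
        have h1 : ((r : ℕ∞) : WithBot ℕ∞) = ((r' : ℕ∞) : WithBot ℕ∞) := hr'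
        exact_mod_cast h1
      exact hrk'
    let Ω : X.Opens := ⟨{x | InLoc u r x} ∩ u.1 ⁻¹' U,
      (isOpen_inLoc u r).inter (U.isOpen.preimage u.1.continuous)⟩
    obtain ⟨x, hx, hloc⟩ := exists_point_of_gRank u hu hrk
    obtain ⟨W, g, y, hg, hy, h, hh⟩ := S0412.result (Ω.ι ≫ u.1) s
      ⟨⟨x, hloc, by show u.1 x ∈ (U : Set S); rw [hx]; exact hsU⟩, by rw [Scheme.Hom.comp_apply]; exact hx⟩
    refine ⟨W, h ≫ Ω.ι, ?_, ?_, fun z => ⟨r, ?_, hU _ ?_⟩⟩
    · rw [Category.assoc, hh]; exact hg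
    · rw [Category.assoc, hh]; exact ⟨y, hy⟩
    · rw [Scheme.Hom.comp_apply]; exact (h z).2.1
    · rw [Scheme.Hom.comp_apply]; exact (h z).2.2
  choose W v hv hs hmax using key
  haveI := hv
  have hdesc : Sigma.desc v ≫ u.1 = Sigma.desc fun s => v s ≫ u.1 := by
    refine Sigma.hom_ext _ _ fun s => ?_
    rw [Sigma.ι_desc_assoc, Sigma.ι_desc]
  refine ⟨∐ W, Sigma.desc v, ?_, ⟨fun s => ?_⟩, fun z => ?_⟩
  · rw [hdesc]
    exact IsZariskiLocalAtSource.sigmaDesc (P := @Etale) fun _ => inferInstance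
  · obtain ⟨y, hy⟩ := hs s
    refine ⟨Sigma.ι W s y, ?_⟩
    rw [← Scheme.Hom.comp_apply, Sigma.ι_desc_assoc]
    exact hy
  · obtain ⟨⟨s, y⟩, rfl⟩ := (sigmaMk W).surjective z
    refine isMaxAtPt_pull (Sigma.desc v) ?_
    rw [sigmaMk_mk, ← Scheme.Hom.comp_apply, Sigma.ι_desc]
    exact hmax s y

/-- The rank is locally constant where maximal tori exist etale locally. -/
theorem redRankLocallyConstant_of_etale [Smooth G.hom] (h : SGA3x.HasMaxTorusEtaleLocally G) :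
    SGA3x.RedRankLocallyConstant G := by
  obtain ⟨S', f, hf, hfs, T, iT, i, hi⟩ := h
  letI := iT
  haveI := hf
  obtain ⟨e, he, hmax⟩ := exists_fam_of_maxTorus f i hi
  obtain rfl := he
  intro s
  obtain ⟨s', rfl⟩ := e.1.surjective s
  obtain ⟨r, hloc, hr⟩ := hmax s'
  refine ⟨⟨e.1 '' {x | InLoc e r x}, e.1.isOpenMap _ (isOpen_inLoc e r)⟩, ⟨s', hloc, rfl⟩, (r : WithBot ℕ∞), ?_⟩
  rintro t ⟨x, hx, rfl⟩
  refine (hasRedRank_iff _ _).mpr ⟨r, rfl, ?_⟩
  obtain ⟨r', hx', hr'⟩ := hmax x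
  obtain ⟨V, B, _, _, w, M, _, ψ, hw, ⟨p, hp⟩, ⟨hM⟩, htr⟩ := hx
  obtain ⟨V', B', _, _, w', M', _, ψ', hw', ⟨p', hp'⟩, ⟨hM'⟩, htr'⟩ := hx'
  haveI : AddGroup.FG (Fin r → ℤ) := Module.Finite.iff_addGroup_fg.mp inferInstance
  haveI : AddGroup.FG M := AddGroup.fg_of_surjective (f := hM.symm.toAddMonoidHom) hM.symm.surjective
  obtain ⟨a⟩ := type_unique e.2.2 htr htr' p p' (hp.trans hp'.symm)
  obtain rfl : r = r' := by
    simpa using ((hM.symm.trans (a.trans hM')).toIntLinearEquiv.finrank_eq)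
  exact hr'

/-- The maximal tori of a commutative group are unique. -/
theorem maxFam_unique [Smooth G.hom] [IsCommMonObj G] {T : Scheme.{u}} (e₁ e₂ : Fam G T) (h : e₁.1 = e₂.1)
    (h₁ : ∀ x, IsMaxAtPt e₁ x) (h₂ : ∀ x, IsMaxAtPt e₂ x) : e₁ = e₂ := by
  obtain ⟨g, Z₁, hZ₁⟩ := e₁
  obtain ⟨g', Z₂, hZ₂⟩ := e₂
  obtain rfl : g = g' := h
  haveI := (smooth_qc_bc (G := G) g).1
  haveI := (smooth_qc_bc (G := G) g).2
  haveI : QuasiSeparated (Red.bc g G).hom := inferInstanceAs (QuasiSeparated (pullback.snd G.hom g))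
  obtain ⟨i₁, hm₁, -⟩ := exists_grp hZ₁
  obtain ⟨i₂, hm₂, -⟩ := exists_grp hZ₂
  letI := i₁
  letI := i₂
  haveI := hm₁
  haveI := hm₂
  have t₁ := isMaximalTorus_of_inLoc (⟨g, Z₁, hZ₁⟩ : Fam G T) h₁
  have t₂ := isMaximalTorus_of_inLoc (⟨g, Z₂, hZ₂⟩ : Fam G T) h₂
  haveI := t₁.2.1
  haveI := t₂.2.1
  have hc : ∀ (X : Over T) (x y : X ⟶ Red.bc g G), x * y = y * x :=
    Deform.Extension.comm_bc g fun _ x y => Deform.Extension.mul_comm_of x y
  obtain ⟨a, ha⟩ := S4120.result T (Red.bc g G) (subK Z₁) (subK Z₂) (subj Z₁) (subj Z₂) t₁ t₂.2.2.1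
    fun X x y => hc X _ _
  obtain ⟨b, hb⟩ := S4120.result T (Red.bc g G) (subK Z₂) (subK Z₁) (subj Z₂) (subj Z₁) t₂ t₁.2.2.1
    fun X x y => hc X _ _
  exact congrArg (Sigma.mk g) (Subtype.ext (le_antisymm
    (le_of_comap_eq_bot ((exists_factor_iff Z₁ (subj Z₂)).mp ⟨a, ha⟩))
    (le_of_comap_eq_bot ((exists_factor_iff Z₂ (subj Z₁)).mp ⟨b, hb⟩))))

/-- A commutative group of locally constant rank has a maximal torus. -/
theorem exists_maximalTorus_comm [Smooth G.hom] [IsCommMonObj G] (hr : SGA3x.RedRankLocallyConstant G) :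
    ∃ (T : Over S) (_ : GrpObj T) (i : T ⟶ G), Red.IsMaximalTorus i := by
  obtain ⟨X, u, hsm, hu⟩ := exists_rep_smooth G
  obtain ⟨S', v, hv, hvs, hmax⟩ := exists_etale_maxFam hr u hu
  obtain ⟨σ, hσ, -⟩ := (covers_of_etale (v ≫ u.1)).desc v fun Y a b hab => by
    refine (hu Y (Fam.pull (a ≫ v) u)).unique rfl ?_
    refine (maxFam_unique (Fam.pull (a ≫ v) u) (Fam.pull (b ≫ v) u) (show (a ≫ v) ≫ u.1 = (b ≫ v) ≫ u.1 by
      rw [Category.assoc, Category.assoc, hab]) ?_ ?_).symm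
    · intro y; rw [Fam.pull_comp]; exact isMaxAtPt_pull a (hmax (a y))
    · intro y; rw [Fam.pull_comp]; exact isMaxAtPt_pull b (hmax (b y))
  haveI := (covers_of_etale (v ≫ u.1)).epi
  have hid : σ ≫ u.1 = 𝟙 S := by rw [← cancel_epi (v ≫ u.1), ← Category.assoc, hσ, Category.comp_id]
  have hall : ∀ s, IsMaxAtPt (Fam.pull σ u) s := fun s => by
    obtain ⟨s', rfl⟩ := (v ≫ u.1).surjective s
    refine isMaxAtPt_pull σ ?_
    rw [← Scheme.Hom.comp_apply, hσ]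
    obtain ⟨r, h1, h2⟩ := hmax s'
    refine ⟨r, inLoc_of_pull v h1, ?_⟩
    rw [← Scheme.Hom.comp_apply]
    exact h2
  let e := Fam.pull σ u
  obtain ⟨iK, hmon, -⟩ := exists_grp e.2.2
  letI := iK
  haveI := hmon
  obtain ⟨b₁⟩ := GrpSchLib.MultTypeBC.bc_congr hid G
  let b₀ : Grp.mk (Red.bc (𝟙 S) G) ≅ Grp.mk G :=
    ((Functor.mapGrpNatIso Over.pullbackId) ≪≫ Functor.mapGrpIdIso).app (Grp.mk G)
  exact ⟨subK e.2.1, iK, _, isMaximalTorus_comp_iso (isMaximalTorus_of_inLoc e hall) (b₁ ≪≫ b₀)⟩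

end Groth.Agent.Deform.MaxTori
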