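import Groth.Agent.Deform.MaxTori.Rep
import Groth.Agent.Deform.CartanNorm.TorusNhd
import Groth.Agent.Deform.Luna.MaxTorusConj
import Groth.Agent.Deform.Luna.MaxBC
import Groth.Agent.Deform.Luna.CentralPreimage
import Groth.Agent.Deform.QuasiIsotrivial

/-!
# Self-centralizing maximal tori

A torus which is its own centralizer in a geometric fibre is so nearby; when the maximal tori of the geometric fibre
at a point are self-centralizing there is a split maximal torus over an etale neighbourhood of the point.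
-/

set_option autoImplicit false
set_option linter.style.haveILetI false
set_option linter.unusedSectionVars false
set_option backward.isDefEq.respectTransparency false
set_option backward.isDefEq.respectTransparency.types false

universe u

open CategoryTheory CategoryTheory.Limits MonoidalCategory CartesianMonoidalCategory AlgebraicGeometry

open scoped MonObj

attribute [local instance] CategoryTheory.Hom.monoid CategoryTheory.Hom.group

namespace Groth.Agent.Deform.MaxTori

open CartanNorm (isIso_of_dim_eq)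
open SubMT HomMT

variable {S : Scheme.{u}}

/-- Self-centralizing subgroups. -/
def SelfCent {T G : Over S} [GrpObj G] (i : T ⟶ G) : Prop :=
  ∀ (X : Over S) (g : X ⟶ G), (∀ (X' : Over S) (x : X' ⟶ X) (t : X' ⟶ T),
    (x ≫ g) * (t ≫ i) = (t ≫ i) * (x ≫ g)) → ∃ t : X ⟶ T, g = t ≫ i

theorem isCentralizerOf_of_selfCent {T G : Over S} [GrpObj T] [GrpObj G] {i : T ⟶ G} [IsMonHom i] [Mono i]
    (hT : Red.IsTorus T) (h : SelfCent i) : Red.IsCentralizerOf i i := by
  refine ⟨inferInstance, inferInstance, fun X g => ⟨?_, fun hg => ?_⟩⟩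
  · rintro ⟨z, rfl⟩ X' x t
    rw [← Category.assoc, ← MonObj.mul_comp, ← MonObj.mul_comp,
      GrpSchLib.MultTypeComm.points_comm (Deform.isMultTypeFT_of_isTorus hT) (x ≫ z) t]
  · obtain ⟨t, ht⟩ := h X g hg
    exact ⟨t, ht.symm⟩

theorem selfCent_of_isCentralizerOf {T G : Over S} [GrpObj T] [GrpObj G] {i : T ⟶ G}
    (h : Red.IsCentralizerOf i i) : SelfCent i := fun X g hg => by
  obtain ⟨t, ht⟩ := (h.2.2 X g).mpr hg
  exact ⟨t, ht.symm⟩

theorem selfCent_comp_iso {T G G' : Over S} [GrpObj G] [GrpObj G'] {i : T ⟶ G} (h : SelfCent i)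
    (a : Grp.mk G ≅ Grp.mk G') : SelfCent (i ≫ a.hom.hom.hom) := fun X g hg => by
  haveI : IsMonHom a.inv.hom.hom := a.inv.hom.isMonHom_hom
  let o : G ≅ G' := (Grp.forget _).mapIso a
  have hid : ∀ {Y : Over S} (y : Y ⟶ G), (y ≫ a.hom.hom.hom) ≫ a.inv.hom.hom = y := fun y => by
    rw [Category.assoc]
    exact (congrArg (y ≫ ·) o.hom_inv_id).trans (Category.comp_id y)
  obtain ⟨t, ht⟩ := h X (g ≫ a.inv.hom.hom) fun X' x t => by
    calc (x ≫ g ≫ a.inv.hom.hom) * (t ≫ i)
        = ((x ≫ g) ≫ a.inv.hom.hom) * ((t ≫ i ≫ a.hom.hom.hom) ≫ a.inv.hom.hom) := by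
          rw [Category.assoc x g, ← Category.assoc t i, hid]
      _ = ((t ≫ i ≫ a.hom.hom.hom) ≫ a.inv.hom.hom) * ((x ≫ g) ≫ a.inv.hom.hom) := by
          rw [← MonObj.mul_comp, hg X' x t, MonObj.mul_comp]
      _ = (t ≫ i) * (x ≫ g ≫ a.inv.hom.hom) := by
          rw [Category.assoc x g, ← Category.assoc t i, hid]
  refine ⟨t, ?_⟩
  rw [← Category.assoc, ← ht, Category.assoc]
  exact ((congrArg (g ≫ ·) o.inv_hom_id).trans (Category.comp_id g)).symm

theorem selfCent_conj {T₁ T₂ G : Over S} [GrpObj G] {i₁ : T₁ ⟶ G} {i₂ : T₂ ⟶ G}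
    (h : SelfCent i₁) (g₀ : 𝟙_ (Over S) ⟶ G) (f : T₁ ≅ T₂) (hf : f.hom ≫ i₂ = AGF.conjBy g₀ i₁) :
    SelfCent i₂ := fun X g hg => by
  obtain ⟨t, ht⟩ := h X ((toUnit X ≫ g₀)⁻¹ * g * (toUnit X ≫ g₀)) fun X' x t => by
    have h1 := hg X' x (t ≫ f.hom)
    rw [Category.assoc, hf] at h1
    simp only [AGF.conjBy, MonObj.comp_mul, GrpObj.comp_inv, ← Category.assoc, comp_toUnit] at h1 ⊢
    generalize toUnit X' ≫ g₀ = c at h1 ⊢
    generalize x ≫ g = a at h1 ⊢
    generalize t ≫ i₁ = b at h1 ⊢
    calc c⁻¹ * a * c * b = c⁻¹ * (a * (c * b * c⁻¹)) * c := by group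
      _ = c⁻¹ * (c * b * c⁻¹ * a) * c := by rw [h1]
      _ = b * (c⁻¹ * a * c) := by group
  refine ⟨t ≫ f.hom, ?_⟩
  rw [Category.assoc, hf]
  simp only [AGF.conjBy, MonObj.comp_mul, GrpObj.comp_inv, ← Category.assoc, comp_toUnit, ← ht]
  group

set_option maxHeartbeats 1600000 in
/-- **A torus which is its own centralizer in a geometric fibre is so, hence maximal, nearby.** -/
theorem exists_nhd_of_selfCentralizing {G T Z : Over S} [GrpObj G] [GrpObj T] [GrpObj Z] [Smooth G.hom]
    [IsAffineHom G.hom] (hconn : ∀ s : S, _root_.IsConnected (G.hom.base ⁻¹' {s}))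
    (i : T ⟶ G) [IsMonHom i] [Mono i] (hT : Red.IsTorus T) (z : Z ⟶ G) (hz : Red.IsCentralizerOf i z)
    (f : T ⟶ Z) (hf : f ≫ z = i) (s : S)
    (hself : Red.IsCentralizerOf ((Over.pullback (Red.geomPt s)).map i) ((Over.pullback (Red.geomPt s)).map i)) :
    ∃ U : S.Opens, s ∈ U ∧ IsIso ((Over.pullback U.ι).map f) ∧ Red.IsMaximalTorus ((Over.pullback U.ι).map i) := by
  haveI := hz.1
  haveI : Mono z := hz.2.1
  haveI : Mono (f ≫ z) := hf ▸ inferInstance
  haveI : Mono f := mono_of_mono f z
  haveI : IsMonHom f := Deform.isMonHom_of_comp f z (i := i) hf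
  obtain ⟨hzc, hZs⟩ := Borel.centralizer_smooth hT hz
  haveI := hzc; haveI := hZs
  haveI : QuasiCompact G.hom := inferInstance
  haveI : IsAffineHom Z.hom := by rw [← Over.w z]; infer_instance
  have hTm := Deform.isMultTypeFT_of_isTorus hT
  haveI : LocallyOfFinitePresentation T.hom := MultTypeFlat.lfp hTm
  haveI : IsAffineHom T.hom := (TransLib.multTypeFT_essFree hTm).1
  haveI : Flat T.hom := MultTypeFlat.flat hTm
  -- the dimensions are locally constant
  let dT : S → WithBot ℕ∞ := fun t => topologicalKrullDim ↥(T.hom ⁻¹' {t})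
  let dZ : S → WithBot ℕ∞ := fun t => topologicalKrullDim ↥(Z.hom ⁻¹' {t})
  let U : S.Opens := ⟨{t | dT t = dT s} ∩ {t | dZ t = dZ s},
    ((GrpSchLib.FibreDimGrp.isLocallyConstant T).isOpen_fiber _).inter
      ((GrpSchLib.FibreDimGrp.isLocallyConstant Z).isOpen_fiber _)⟩
  -- residue fibres and geometric fibres
  have hgeo : ∀ t : S, IsIso ((Over.pullback (S.fromSpecResidueField t)).map f) ↔
      IsIso ((Over.pullback (Red.geomPt t)).map f) := by
    intro t
    let a := Spec.map (CommRingCat.ofHom (algebraMap (S.residueField t) (AlgebraicClosure (S.residueField t))))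
    rw [NatIso.isIso_map_iff (Over.pullbackComp a (S.fromSpecResidueField t)) f]
    refine ⟨fun h => inferInstanceAs (IsIso ((Over.pullback a).map ((Over.pullback (S.fromSpecResidueField t)).map f))),
      fun h => ?_⟩
    haveI : IsIso ((Over.pullback a).map ((Over.pullback (S.fromSpecResidueField t)).map f)) := h
    let ft := (Over.pullback (S.fromSpecResidueField t)).map f
    haveI : IsIso ft.left :=
      MorphismProperty.of_isPullback_of_descendsAlong (P := MorphismProperty.isomorphisms Scheme)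
        (Q := @Surjective ⊓ @Flat ⊓ @QuasiCompact) (Deform.Extension.isPullback_map_left a ft)
        (MorphismProperty.pullback_fst _ a ⟨⟨GrpSchLib.surjective_spec_map_field _, GrpSchLib.flat_spec_map_field _⟩, inferInstance⟩)
        ((Over.forget _).map_isIso ((Over.pullback a).map ft))
    haveI : IsIso ((Over.forget _).map ft) := ‹IsIso ft.left›
    exact isIso_of_reflects_iso ft (Over.forget _)
  -- the fibre at `s`
  haveI hGg : ∀ t : S, IsAffine (Red.geomFibre t G).left := fun t => by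
    haveI : IsAffineHom (pullback.snd G.hom (Red.geomPt t)) :=
      MorphismProperty.pullback_snd (P := @IsAffineHom) G.hom _ ‹_›
    exact isAffine_of_isAffineHom (pullback.snd G.hom (Red.geomPt t))
  haveI hGs : ∀ t : S, Smooth (Red.geomFibre t G).hom := fun t =>
    MorphismProperty.pullback_snd (P := @Smooth) G.hom (Red.geomPt t) ‹_›
  haveI : ConnectedSpace (Red.geomFibre s G).left := Luna.connectedSpace_geom hconn s
  have hiso_s : IsIso ((Over.pullback (Red.geomPt s)).map f) := by
    obtain ⟨e, he⟩ := Borel.exists_iso_centralizer hself (Borel.isCentralizerOf_bc (Red.geomPt s) hz)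
    haveI : Mono ((Over.pullback (Red.geomPt s)).map z) := inferInstance
    rw [show (Over.pullback (Red.geomPt s)).map f = e.hom by
      rw [← cancel_mono ((Over.pullback (Red.geomPt s)).map z), ← Functor.map_comp, hf, he]]
    infer_instance
  have hdim : ∀ t : S, (dZ t = topologicalKrullDim ↥(pullback Z.hom (S.fromSpecResidueField t))) ∧
      dT t = topologicalKrullDim ↥(pullback T.hom (S.fromSpecResidueField t)) := fun t =>
    ⟨((Z.hom.fiberHomeo t).isHomeomorph.topologicalKrullDim_eq).symm,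
      ((T.hom.fiberHomeo t).isHomeomorph.topologicalKrullDim_eq).symm⟩
  have hds : dZ s = dT s := by
    haveI := (hgeo s).mpr hiso_s
    let e := (Over.forget _).mapIso (asIso ((Over.pullback (S.fromSpecResidueField s)).map f))
    rw [(hdim s).1, (hdim s).2]
    exact (e.hom.homeomorph.isHomeomorph.topologicalKrullDim_eq).symm
  -- all fibres over `U`
  have hfib : ∀ t ∈ U, IsIso ((Over.pullback (S.fromSpecResidueField t)).map f) := by
    rintro t ⟨htT, htZ⟩
    let y := S.fromSpecResidueField t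
    let Tt : Over (Spec (CommRingCat.of (S.residueField t))) := Red.bc y T
    let Zt : Over (Spec (CommRingCat.of (S.residueField t))) := Red.bc y Z
    haveI : Smooth Zt.hom := MorphismProperty.pullback_snd (P := @Smooth) Z.hom y hZs
    haveI : LocallyOfFiniteType Tt.hom := inferInstanceAs (LocallyOfFiniteType (pullback.snd T.hom y))
    haveI : QuasiCompact Tt.hom := inferInstanceAs (QuasiCompact (pullback.snd T.hom y))
    haveI : ConnectedSpace Zt.left := by
      let K := AlgebraicClosure (S.residueField t)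
      let a : Spec (CommRingCat.of K) ⟶ Spec (CommRingCat.of (S.residueField t)) :=
        Spec.map (CommRingCat.ofHom (algebraMap (S.residueField t) K))
      haveI : IsAffine (Red.bc (Red.geomPt t) G).left := hGg t
      haveI : Smooth (Red.bc (Red.geomPt t) G).hom := MorphismProperty.pullback_snd (P := @Smooth) G.hom _ ‹_›
      haveI := Luna.connectedSpace_geom hconn t
      haveI hZc : ConnectedSpace (Red.bc (Red.geomPt t) Z).left :=
        Borel.centralizer_connected (Red.bc (Red.geomPt t) G) (Deform.isTorus_bc (Red.geomPt t) hT)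
          (Borel.isCentralizerOf_bc (Red.geomPt t) hz)
      haveI : ConnectedSpace (Red.bc a Zt).left := by
        let e := pullbackLeftPullbackSndIso Z.hom y a
        haveI : ConnectedSpace ↥(pullback Z.hom (a ≫ y)) := hZc
        exact e.inv.homeomorph.surjective.connectedSpace e.inv.homeomorph.continuous
      exact Borel.connectedSpace_of_bc a Zt
    haveI : IsMonHom ((Over.pullback y).map f) := inferInstance
    haveI : Mono ((Over.pullback y).map f) := inferInstance
    refine isIso_of_dim_eq (T := Tt) (Z := Zt) ((Over.pullback y).map f) ?_ ?_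
    · show topologicalKrullDim ↥(pullback Z.hom y) ≠ ⊤
      rw [← (hdim t).1]
      obtain ⟨n, hn⟩ := GrpSchLib.FibreDimGrp.exists_nat Z t
      show topologicalKrullDim ↥(Z.hom ⁻¹' {t}) ≠ ⊤
      rw [hn]
      exact fun h => ENat.coe_ne_top n (WithBot.coe_injective h)
    · show topologicalKrullDim ↥(pullback Z.hom y) = topologicalKrullDim ↥(pullback T.hom y)
      rw [← (hdim t).1, ← (hdim t).2, htT, htZ, hds]
  -- the restriction to `U`
  let f' := (Over.pullback U.ι).map f
  have hfibU : ∀ u : U, IsIso ((Over.pullback (U.toScheme.fromSpecResidueField u)).map f') := by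
    intro u
    show IsIso ((Over.pullback U.ι ⋙ Over.pullback (U.toScheme.fromSpecResidueField u)).map f)
    rw [← NatIso.isIso_map_iff (Over.pullbackComp (U.toScheme.fromSpecResidueField u) U.ι) f]
    suffices key : ∀ g' : Spec (U.toScheme.residueField u) ⟶ S,
        g' = Spec.map (U.ι.residueFieldMap u) ≫ S.fromSpecResidueField (U.ι u) →
        IsIso ((Over.pullback g').map f) from
      key _ (Scheme.Hom.SpecMap_residueFieldMap_fromSpecResidueField U.ι u).symm
    rintro _ rfl
    rw [NatIso.isIso_map_iff (Over.pullbackComp (Spec.map (U.ι.residueFieldMap u)) (S.fromSpecResidueField (U.ι u))) f]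
    haveI := hfib (U.ι u) u.2
    exact (Over.pullback (Spec.map (U.ι.residueFieldMap u))).map_isIso
      ((Over.pullback (S.fromSpecResidueField (U.ι u))).map f)
  haveI : Smooth ((Over.pullback U.ι).obj T).hom := by
    haveI : Smooth T.hom := by
      haveI : LocallyOfFinitePresentation (T.hom ≫ 𝟙 S) := by rw [Category.comp_id]; infer_instance
      haveI : Flat (T.hom ≫ 𝟙 S) := by rw [Category.comp_id]; infer_instance
      refine FlatMisc.smooth_of_smooth_fibres (𝟙 S) T.hom fun t => ?_
      obtain ⟨-, -, hTs', -⟩ := Deform.TorusBasic.props (Deform.isTorus_bc (S.fromSpecResidueField t) hT)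
      let e := pullback.snd (𝟙 S) (S.fromSpecResidueField t)
      suffices key : ∀ g' : (𝟙 S : S ⟶ S).fiber t ⟶ S, g' = e ≫ S.fromSpecResidueField t →
          Smooth (pullback.snd T.hom g') from
        key _ ((Category.comp_id _).symm.trans pullback.condition)
      rintro _ rfl
      rw [← pullbackLeftPullbackSndIso_inv_snd_snd T.hom (S.fromSpecResidueField t) e]
      haveI : Smooth (pullback.snd T.hom (S.fromSpecResidueField t)) := hTs'
      infer_instance
    exact MorphismProperty.pullback_snd (P := @Smooth) T.hom U.ι inferInstance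
  haveI : IsIso f' := by
    haveI : LocallyOfFiniteType ((Over.pullback U.ι).obj Z).hom :=
      inferInstanceAs (LocallyOfFiniteType (pullback.snd Z.hom U.ι))
    haveI : LocallyOfFinitePresentation (f'.left ≫ ((Over.pullback U.ι).obj Z).hom) := by
      rw [Over.w f']; infer_instance
    haveI : Flat (f'.left ≫ ((Over.pullback U.ι).obj Z).hom) := by rw [Over.w f']; infer_instance
    have hi : ∀ u : U.toScheme, IsIso (pullback.snd f'.left
        (pullback.fst ((Over.pullback U.ι).obj Z).hom (U.toScheme.fromSpecResidueField u))) := fun u => by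
      haveI := hfibU u
      haveI : IsIso ((Over.pullback (U.toScheme.fromSpecResidueField u)).map f').left :=
        (Over.forget _).map_isIso ((Over.pullback (U.toScheme.fromSpecResidueField u)).map f')
      rw [← (GrpSchLib.HomFibre.map_isPullback f' (U.toScheme.fromSpecResidueField u)).isoPullback_inv_snd]
      infer_instance
    haveI : IsOpenImmersion f'.left :=
      FlatMisc.isOpenImmersion_of_fibres ((Over.pullback U.ι).obj Z).hom f'.left fun u => by
        haveI := hi u
        show IsOpenImmersion (pullback.snd f'.left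
          (pullback.fst ((Over.pullback U.ι).obj Z).hom (U.toScheme.fromSpecResidueField u)))
        infer_instance
    haveI : Surjective f'.left := ⟨fun p => by
      obtain ⟨q, hq⟩ := FlatMisc.mem_range_fiberι ((Over.pullback U.ι).obj Z).hom _ p rfl
      haveI := hi (((Over.pullback U.ι).obj Z).hom p)
      obtain ⟨r, hr⟩ := (pullback.snd f'.left (pullback.fst ((Over.pullback U.ι).obj Z).hom
        (U.toScheme.fromSpecResidueField (((Over.pullback U.ι).obj Z).hom p)))).surjective q
      refine ⟨pullback.fst f'.left _ r, ?_⟩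
      rw [← Scheme.Hom.comp_apply, pullback.condition, Scheme.Hom.comp_apply, hr]
      exact hq⟩
    haveI : IsIso f'.left := (isIso_iff_isOpenImmersion_and_surjective _).mpr ⟨inferInstance, inferInstance⟩
    haveI : IsIso ((Over.forget _).map f') := ‹IsIso f'.left›
    exact isIso_of_reflects_iso f' (Over.forget _)
  refine ⟨U, ⟨rfl, rfl⟩, ‹IsIso f'›, inferInstance, inferInstance, Deform.isTorus_bc U.ι hT,
    fun u T' _ j _ _ f₀ hT' hf₀ => ?_⟩
  -- maximality: a larger torus commutes, hence lands in the centralizer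
  let b := Red.geomPt u
  let iU := (Over.pullback U.ι).map i
  let zU := (Over.pullback U.ι).map z
  have hzb := Borel.isCentralizerOf_bc b (Borel.isCentralizerOf_bc U.ι hz)
  obtain ⟨w, hw⟩ := (hzb.2.2 T' j).mpr fun X x h => by
    rw [← hf₀, ← Category.assoc, ← MonObj.mul_comp, ← MonObj.mul_comp,
      GrpSchLib.MultTypeComm.points_comm (Deform.isMultTypeFT_of_isTorus hT') x (h ≫ f₀)]
  let w' : T' ⟶ Red.geomFibre u (Red.bc U.ι T) := w ≫ inv ((Over.pullback b).map f')
  have hw' : w' ≫ (Over.pullback b).map iU = j := by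
    rw [show (Over.pullback b).map iU = (Over.pullback b).map f' ≫ (Over.pullback b).map zU by
      rw [← Functor.map_comp, ← Functor.map_comp, hf], Category.assoc, IsIso.inv_hom_id_assoc]
    exact hw
  haveI : Mono ((Over.pullback b).map iU) := inferInstance
  exact ⟨w', by rw [← cancel_mono ((Over.pullback b).map iU), Category.assoc, hw', hf₀, Category.id_comp],
    by rw [← cancel_mono j, Category.assoc, hf₀, hw', Category.id_comp]⟩



/-- Where the maximal tori of a geometric fibre are self-centralizing there are split maximal tori etale locally. -/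
theorem exists_etale_split_maxTorus (G : Over S) [GrpObj G] [IsAffineHom G.hom] [Smooth G.hom]
    (hconn : ∀ s : S, _root_.IsConnected (G.hom.base ⁻¹' {s})) (s₀ : S)
    (hc : ∀ (T : Over (Spec (CommRingCat.of (AlgebraicClosure (S.residueField s₀))))) [GrpObj T]
      (i : T ⟶ Red.geomFibre s₀ G), Red.IsMaximalTorus i → SelfCent i) :
    ∃ (B : Type u) (_ : CommRing B) (v : Spec (CommRingCat.of B) ⟶ S), Etale v ∧ s₀ ∈ Set.range v.base ∧
      ∃ (T : Over (Spec (CommRingCat.of B))) (_ : GrpObj T) (i : T ⟶ Red.bc v G),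
        Red.IsMaximalTorus i ∧ ∃ r : ℕ, Red.IsSplitTorusWith (Fin r → ℤ) T := by
  haveI : QuasiCompact G.hom := inferInstance
  obtain ⟨X, u, hsm, hu⟩ := exists_rep_smooth G
  obtain ⟨r, hr⟩ := exists_gRank G s₀
  obtain ⟨x, hx, hloc⟩ := exists_point_of_gRank u hu hr
  let Ω : X.Opens := ⟨{x | InLoc u r x}, isOpen_inLoc u r⟩
  obtain ⟨W, g, y, hg, hy, h, hh⟩ := S0412.result (Ω.ι ≫ u.1) s₀
    ⟨⟨x, hloc⟩, by rw [Scheme.Hom.comp_apply]; exact hx⟩
  let e := Fam.pull (h ≫ Ω.ι) u
  have he : e.1 = g := by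
    show (h ≫ Ω.ι) ≫ u.1 = g
    rw [Category.assoc, hh]
  have heloc : ∀ w, InLoc e r w := fun w => inLoc_pull _ (by rw [Scheme.Hom.comp_apply]; exact (h w).2)
  haveI := hg
  haveI : Smooth (Red.bc e.1 G).hom := inferInstanceAs (Smooth (pullback.snd G.hom e.1))
  haveI : IsAffineHom (Red.bc e.1 G).hom := MorphismProperty.pullback_snd (P := @IsAffineHom) G.hom e.1 ‹_›
  haveI : QuasiCompact (Red.bc e.1 G).hom := inferInstance
  obtain ⟨iK, hmon, -⟩ := exists_grp e.2.2
  letI := iK
  haveI := hmon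
  haveI : Mono (subj e.2.1).left := inferInstanceAs (Mono e.2.1.subschemeι)
  haveI : Mono (subj e.2.1) := Over.mono_of_mono_left _
  let T := subK e.2.1
  let i : T ⟶ Red.bc e.1 G := subj e.2.1
  have hT : Red.IsTorus T := isTorus_of_inLoc e fun w => ⟨r, heloc w⟩
  have hconn' : ∀ w, _root_.IsConnected ((Red.bc e.1 G).hom.base ⁻¹' {w}) := fun w =>
    Deform.Luna.isConnected_fibre_bc e.1 hconn w
  -- the geometric fibre at `y`
  let K := AlgebraicClosure (W.residueField y)
  let p := Red.geomPt y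
  have hpy : y ∈ Set.range p := mem_range_geomPt y
  have hs₀ : s₀ ∈ Set.range (p ≫ e.1) := by
    obtain ⟨q, hq⟩ := hpy
    exact ⟨q, by rw [Scheme.Hom.comp_apply, hq, he, hy]⟩
  obtain ⟨b⟩ := GrpSchLib.MultTypeBC.bc_bc p e.1 G
  obtain ⟨rT, hrT⟩ := Deform.exists_split _ (Deform.isTorus_bc p hT)
  obtain rfl : r = rT := rank_inLoc e (heloc y) p hpy hrT
  haveI : Smooth (Red.bc p (Red.bc e.1 G)).hom := inferInstanceAs (Smooth (pullback.snd _ p))
  haveI : QuasiCompact (Red.bc p (Red.bc e.1 G)).hom := inferInstanceAs (QuasiCompact (pullback.snd _ p))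
  have hmaxy : AGF.IsMaxTorus ((Over.pullback p).map i) :=
    (rank_le_gRank (gRank_bc e.1 (show GRank G (e.1 y) r by rw [he, hy]; exact hr)) hpy
      ((Over.pullback p).map i) hrT).2 rfl
  have hself : Red.IsCentralizerOf ((Over.pullback p).map i) ((Over.pullback p).map i) := by
    obtain ⟨T₀, iT₀, i₀, hi₀, hr₀⟩ := hr
    letI := iT₀
    haveI := hi₀.1
    haveI := hi₀.2.1
    have h₀ := isCentralizerOf_of_selfCent hi₀.2.2.1 (hc T₀ i₀ (Borel.isMaximalTorus_of_isMaxTorus hi₀))
    obtain ⟨alg, hz⟩ := exists_ext (p ≫ e.1) hs₀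
    letI := alg
    let a := ext (AlgebraicClosure (S.residueField s₀)) K
    have h₁ := selfCent_of_isCentralizerOf (Borel.isCentralizerOf_bc a h₀)
    obtain ⟨c⟩ := GrpSchLib.MultTypeBC.bc_bc a (Red.geomPt s₀) G
    obtain ⟨c'⟩ := GrpSchLib.MultTypeBC.bc_congr hz G
    have h₂ := selfCent_comp_iso h₁ (c ≪≫ c' ≪≫ b.symm)
    haveI : Smooth (Red.geomFibre s₀ G).hom := inferInstanceAs (Smooth (pullback.snd G.hom _))
    haveI : QuasiCompact (Red.geomFibre s₀ G).hom := inferInstanceAs (QuasiCompact (pullback.snd G.hom _))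
    have hmax₂ := isMaxTorus_comp_iso (max_bc (L := K) hi₀) (c ≪≫ c' ≪≫ b.symm)
    obtain ⟨g₀, f₀, -, hf₀⟩ := Luna.conj_maxTorus _ _ hmax₂ hmaxy
    exact isCentralizerOf_of_selfCent (Deform.isTorus_bc p hT) (selfCent_conj h₂ g₀ f₀ hf₀)
  -- the centralizer
  haveI : IsSeparated (Red.bc e.1 G).hom := inferInstance
  obtain ⟨Z, iZ, z, hz, -, -⟩ :=
    Deform.exists_centralizer (Deform.isMultType_of_ft (Deform.isMultTypeFT_of_isTorus hT)) i
  letI := iZ
  obtain ⟨f, hf⟩ := (hz.2.2 T i).mpr fun X' x t => by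
    rw [← MonObj.mul_comp, ← MonObj.mul_comp,
      GrpSchLib.MultTypeComm.points_comm (Deform.isMultTypeFT_of_isTorus hT) x t]
  obtain ⟨U, hyU, -, hmaxU⟩ := exists_nhd_of_selfCentralizing hconn' i hT z hz f hf y hself
  -- split it
  have hTU := Deform.isTorus_bc U.ι hT
  obtain ⟨W', f', M, iM, hf', ⟨y', hy'⟩, hM, ⟨d⟩⟩ :=
    QuasiIsotrivial.exists_etale_split (Deform.isMultTypeFT_of_isTorus hTU) ⟨y, hyU⟩
  haveI := hf'
  haveI := hM
  obtain ⟨V, hV, hyV, -⟩ := exists_isAffineOpen_mem_and_subset (X := W') (x := y') (U := ⊤) trivial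
  let q : Spec Γ(W', V) ⟶ W' := hV.fromSpec
  let k := q ≫ f' ≫ U.ι
  let v := k ≫ e.1
  obtain ⟨y'', hy''⟩ : y' ∈ Set.range q := hV.range_fromSpec.symm ▸ hyV
  have hk : k y'' = y := by
    simp only [k, Scheme.Hom.comp_apply, hy'', hy']
    rfl
  have hv : Etale v := by
    show Etale ((q ≫ f' ≫ U.ι) ≫ e.1)
    rw [he]
    infer_instance
  refine ⟨Γ(W', V), inferInstance, v, hv, ⟨y'', ?_⟩, ?_⟩
  · show (k ≫ e.1) y'' = s₀
    exact (Scheme.Hom.comp_apply k e.1 y'').trans ((congrArg (fun t => e.1 t) hk).trans (by rw [he, hy]))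
  haveI : Smooth (Red.bc U.ι (Red.bc e.1 G)).hom := inferInstanceAs (Smooth (pullback.snd _ U.ι))
  haveI : QuasiCompact (Red.bc U.ι (Red.bc e.1 G)).hom := inferInstanceAs (QuasiCompact (pullback.snd _ U.ι))
  obtain ⟨b₁⟩ := GrpSchLib.MultTypeBC.bc_bc (q ≫ f') U.ι (Red.bc e.1 G)
  obtain ⟨b₂⟩ := GrpSchLib.MultTypeBC.bc_congr (Category.assoc q f' U.ι) (Red.bc e.1 G)
  obtain ⟨b₃⟩ := GrpSchLib.MultTypeBC.bc_bc k e.1 G
  refine ⟨_, inferInstance, _,
    isMaximalTorus_comp_iso (Luna.isMaximalTorus_bc (q ≫ f') hmaxU) (b₁ ≪≫ b₂ ≪≫ b₃), r, ?_⟩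
  obtain ⟨a₁⟩ := GrpSchLib.MultTypeBC.bc_bc q f' (Red.bc U.ι T)
  obtain ⟨a₂⟩ := GrpSchLib.MultTypeBC.bc_iso q d
  obtain ⟨a₃⟩ := GrpSchLib.MultTypeBC.bc_DS q M
  -- the rank
  obtain ⟨c₁⟩ := GrpSchLib.MultTypeBC.bc_bc f' U.ι T
  obtain ⟨a₄⟩ := rank_of_split (f' ≫ U.ι) (c₁.symm ≪≫ d) p hpy
    ⟨y', by rw [Scheme.Hom.comp_apply, hy']; rfl⟩ hrT
  obtain ⟨a₅⟩ := Deform.SplitQuot.nonempty_DS_congr (S := Spec Γ(W', V)) a₄
  exact ⟨a₁.symm ≪≫ a₂ ≪≫ a₃ ≪≫ a₅.symm⟩

end Groth.Agent.Deform.MaxTori
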